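import Cfsg.Agent.H437.Code
import Cfsg.Agent.S0000
import Cfsg.Agent.NotCT.Orders
import Cfsg.Agent.S0243
import Cfsg.Agent.S0245
import Cfsg.Agent.S0246
import Cfsg.Agent.S0280
import Cfsg.Agent.S0292
import Cfsg.Agent.S0293
import Cfsg.Agent.S0294
import Cfsg.Agent.S1059
import Cfsg.Agent.S1062
import Cfsg.Agent.S1063
import Cfsg.Agent.S1064
import Cfsg.Agent.S1065
import Cfsg.Agent.S1066
import Cfsg.Agent.S1067
import Cfsg.Agent.S1068
import Cfsg.Agent.S1069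
import Cfsg.Agent.S1163

/-!
# The orders of all finite simple groups (through the classification)

`LT.Rep T q G` : `G` is isomorphic to the simple group of type `T` over the field with `q` elements.
`cases` : every finite simple group has prime order, or is alternating, or is of Lie type with an explicit order code,
or is the Tits group, or sporadic.
-/

set_option autoImplicit false

namespace Cfsg.Agent.H437

open Finset Cfsg

universe u

/-- `G` is the simple group of type `T` over the field with `q` elements -/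
def LT.Rep (T : LT) (q : ℕ) (G : Type u) [Group G] : Prop :=
  match T with
  | .A n => ∃ (F : Type) (_ : Field F) (_ : Fintype F), Fintype.card F = q ∧
      Nonempty (G ≃* Matrix.ProjectiveSpecialLinearGroup (Fin n) F)
  | .U n => ∃ (F : Type) (_ : Field F) (_ : Fintype F), Fintype.card F = q ^ 2 ∧ Nonempty (G ≃* PSU n F q)
  | .C m => (∃ (F : Type) (_ : Field F) (_ : Fintype F), Fintype.card F = q ∧ Nonempty (G ≃* PSp m F)) ∨
      (3 ≤ m ∧ Odd q ∧ ∃ (F : Type) (_ : Field F) (_ : Fintype F), Fintype.card F = q ∧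
        Nonempty (G ≃* POmega F (quadFormOdd m F)))
  | .P m => ∃ (F : Type) (_ : Field F) (_ : Fintype F), Fintype.card F = q ∧
      Nonempty (G ≃* POmega F (quadFormPlus m F))
  | .M m => ∃ (F : Type) (_ : Field F) (_ : Fintype F) (a b : F), Fintype.card F = q ∧
      (∀ z₁ z₂ : F, z₁ ^ 2 + a * z₁ * z₂ + b * z₂ ^ 2 = 0 → z₁ = 0 ∧ z₂ = 0) ∧
      Nonempty (G ≃* POmega F (quadFormMinus (m - 1) F a b))
  | .G2 => ∃ (F : Type) (_ : Field F) (_ : Fintype F), Fintype.card F = q ∧ Nonempty (G ≃* Lie.chevG2.group F)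
  | .F4 => ∃ (F : Type) (_ : Field F) (_ : Fintype F), Fintype.card F = q ∧ Nonempty (G ≃* Lie.chevF4.group F)
  | .E6 => ∃ (F : Type) (_ : Field F) (_ : Fintype F), Fintype.card F = q ∧ Nonempty (G ≃* Lie.chevE6.group F)
  | .E7 => ∃ (F : Type) (_ : Field F) (_ : Fintype F), Fintype.card F = q ∧ Nonempty (G ≃* Lie.chevE7.group F)
  | .E8 => ∃ (F : Type) (_ : Field F) (_ : Fintype F), Fintype.card F = q ∧ Nonempty (G ≃* Lie.chevE8.group F)
  | .TE6 => ∃ (F : Type) (_ : Field F) (_ : Fintype F), Fintype.card F = q ^ 2 ∧ Nonempty (G ≃* Lie.twistedE6 F q)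
  | .TD4 => ∃ (F : Type) (_ : Field F) (_ : Fintype F), Fintype.card F = q ^ 3 ∧ Nonempty (G ≃* Lie.twistedD4 F q)
  | .Sz => ∃ (F : Type) (_ : Field F) (_ : Fintype F) (m : ℕ), 1 ≤ m ∧ Fintype.card F = q ∧ q = 2 ^ (2 * m + 1) ∧
      Nonempty (G ≃* Lie.Sz F (2 ^ (m + 1)))
  | .Ree => ∃ (F : Type) (_ : Field F) (_ : Fintype F) (m : ℕ), 1 ≤ m ∧ Fintype.card F = q ∧ q = 3 ^ (2 * m + 1) ∧
      Nonempty (G ≃* Lie.twistedG2 F (3 ^ m))
  | .TF4 => ∃ (F : Type) (_ : Field F) (_ : Fintype F) (m : ℕ), 1 ≤ m ∧ Fintype.card F = q ∧ q = 2 ^ (2 * m + 1) ∧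
      Nonempty (G ≃* Lie.twistedF4 F (2 ^ m))

theorem exists_pow (F : Type*) [Field F] [Fintype F] :
    ∃ p f : ℕ, p.Prime ∧ f ≠ 0 ∧ Fintype.card F = p ^ f := by
  obtain ⟨p, hc⟩ := CharP.exists F
  haveI : NeZero p := ⟨CharP.char_ne_zero_of_finite F p⟩
  obtain ⟨n, hp, h⟩ := FiniteField.card F p
  exact ⟨p, n, hp, n.ne_zero, h⟩

theorem root_pow {q m c : ℕ} (hm : m ≠ 0) (hc : ∃ p k : ℕ, p.Prime ∧ k ≠ 0 ∧ c = p ^ k) (h : c = q ^ m) :
    ∃ p k : ℕ, p.Prime ∧ k ≠ 0 ∧ q = p ^ k := by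
  obtain ⟨p, k, hp, hk, hc⟩ := hc
  have h1 : q ∣ p ^ k := by rw [← hc, h]; exact dvd_pow_self q hm
  obtain ⟨j, -, hj⟩ := (Nat.dvd_prime_pow hp).1 h1
  refine ⟨p, j, hp, ?_, hj⟩
  rintro rfl
  rw [pow_zero] at hj
  rw [hj, one_pow, hc] at h
  exact absurd h (Nat.one_lt_pow hk hp.one_lt).ne'

theorem prod_gl {q : ℕ} (n : ℕ) :
    ∏ i : Fin n, (q ^ n - q ^ (i : ℕ)) = q ^ (n * (n - 1) / 2) * ∏ i ∈ range n, (q ^ (i + 1) - 1) := by
  rw [Fin.prod_univ_eq_prod_range (fun i => q ^ n - q ^ i) n]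
  have h1 : ∀ i ∈ range n, q ^ n - q ^ i = q ^ i * (q ^ (n - i) - 1) := by
    intro i hi
    rw [mem_range] at hi
    rw [Nat.mul_sub, ← pow_add, Nat.add_sub_cancel' hi.le, mul_one]
  rw [prod_congr rfl h1, prod_mul_distrib, prod_pow_eq_pow_sum, ← Finset.sum_range_id_mul_two]
  congr 1
  · rw [Nat.mul_div_cancel _ (by norm_num)]
  · rw [← Finset.prod_range_reflect]
    refine prod_congr rfl fun i hi => ?_
    rw [mem_range] at hi
    congr 2
    omega

theorem card_psl {F : Type*} [Field F] [Fintype F] {q : ℕ} (hF : Fintype.card F = q) {n : ℕ} (hn : 2 ≤ n) (hq : 2 ≤ q) :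
    (LT.A n).dd q * Nat.card (Matrix.ProjectiveSpecialLinearGroup (Fin n) F) =
      q ^ (LT.A n).expo * (LT.A n).cof q := by
  have h := S0243.result hF n hn
  obtain ⟨m, rfl⟩ := Nat.exists_eq_add_of_le' hn
  rw [prod_gl, Finset.prod_range_succ', zero_add, pow_one, mul_left_comm, ← mul_assoc (q ^ _),
    mul_comm _ (q - 1)] at h
  exact Nat.eq_of_mul_eq_mul_left (show 0 < q - 1 by omega) h

theorem card_psu {F : Type*} [Field F] [Fintype F] {q : ℕ} (hF : Fintype.card F = q ^ 2) {n : ℕ} (hn : 3 ≤ n) :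
    (LT.U n).dd q * Nat.card (PSU n F q) = q ^ (LT.U n).expo * (LT.U n).cof q := by
  have h := S0280.result hF n (by omega)
  obtain ⟨m, rfl⟩ := Nat.exists_eq_add_of_le' hn
  rw [Finset.prod_range_succ', if_pos (by decide), zero_add, pow_one, mul_left_comm, ← mul_assoc (q ^ _),
    mul_comm _ (q + 1)] at h
  have h' := Nat.eq_of_mul_eq_mul_left (show 0 < q + 1 by omega) h
  rw [show (LT.U (m + 3)).dd q = Nat.gcd (m + 3) (q + 1) from rfl, h']
  congr 1
  refine prod_congr rfl fun i _ => ?_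
  rcases Nat.even_or_odd i with hi | hi
  · rw [if_pos hi, if_neg (by rw [Nat.even_add_one, not_not]; exact hi)]
  · rw [if_neg (Nat.not_even_iff_odd.2 hi), if_pos hi.add_one]

theorem card_psp {F : Type*} [Field F] [Fintype F] {q : ℕ} (hF : Fintype.card F = q) {m : ℕ} (hm : 1 ≤ m) :
    (LT.C m).dd q * Nat.card (PSp m F) = q ^ (LT.C m).expo * (LT.C m).cof q := by
  have h1 := S0245.result hF m
  have h2 := S0246.result hF m hm
  have h3 := Subgroup.card_mul_index (Subgroup.center ↥(Matrix.symplecticGroup (Fin m) F))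
  rw [h1, h2] at h3
  exact h3

theorem gcd_two_odd {q : ℕ} (h : Odd q) : Nat.gcd 2 (q - 1) = 2 := by
  obtain ⟨k, rfl⟩ := h
  rw [Nat.add_sub_cancel]
  exact Nat.gcd_mul_right_right 2 k |> fun h => by simp

theorem card_pomegaOdd {F : Type*} [Field F] [Fintype F] {q : ℕ} (hF : Fintype.card F = q) (ho : Odd q) {m : ℕ}
    (hm : 3 ≤ m) :
    (LT.C m).dd q * Nat.card (POmega F (quadFormOdd m F)) = q ^ (LT.C m).expo * (LT.C m).cof q := by
  have h1 := S0292.result hF ho m hm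
  rw [show (LT.C m).dd q = 2 from gcd_two_odd ho]
  exact h1

/-- the order formula -/
theorem LT.Rep.card {T : LT} {p f : ℕ} (hp : p.Prime) (hf : f ≠ 0) (hv : T.Valid p f) {G : Type u} [Group G]
    (h : T.Rep (p ^ f) G) : T.dd (p ^ f) * Nat.card G = (p ^ f) ^ T.expo * T.cof (p ^ f) := by
  have hq : 2 ≤ p ^ f := by
    calc 2 ≤ p := hp.two_le
      _ = p ^ 1 := (pow_one p).symm
      _ ≤ p ^ f := Nat.pow_le_pow_right hp.pos (Nat.one_le_iff_ne_zero.2 hf)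
  have hpp : IsPrimePow (p ^ f) := hp.isPrimePow.pow hf
  cases T with
  | A n =>
    obtain ⟨F, _, _, hF, ⟨e⟩⟩ := h
    rw [Nat.card_congr e.toEquiv]
    exact card_psl hF hv.1 hq
  | U n =>
    obtain ⟨F, _, _, hF, ⟨e⟩⟩ := h
    rw [Nat.card_congr e.toEquiv]
    exact card_psu hF hv.1
  | C m =>
    obtain ⟨F, _, _, hF, ⟨e⟩⟩ | ⟨h3, ho, F, _, _, hF, ⟨e⟩⟩ := h
    · rw [Nat.card_congr e.toEquiv]
      exact card_psp hF (by have := hv.1; omega)
    · rw [Nat.card_congr e.toEquiv]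
      exact card_pomegaOdd hF ho h3
  | P m =>
    obtain ⟨F, _, _, hF, ⟨e⟩⟩ := h
    rw [Nat.card_congr e.toEquiv]
    have := S0293.result hF m hv
    rw [show (LT.P m).dd (p ^ f) = Nat.gcd 4 ((p ^ f) ^ m - 1) from rfl, this, mul_assoc]
    rfl
  | M m =>
    obtain ⟨F, _, _, a, b, hF, hab, ⟨e⟩⟩ := h
    rw [Nat.card_congr e.toEquiv]
    have := S0294.result hF m hv a b hab
    rw [show (LT.M m).dd (p ^ f) = Nat.gcd 4 ((p ^ f) ^ m + 1) from rfl, this, mul_assoc]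
    rfl
  | G2 =>
    obtain ⟨F, _, _, hF, ⟨e⟩⟩ := h
    rw [Nat.card_congr e.toEquiv, S1059.result hF]
    simp only [LT.dd, LT.expo, LT.cof]; ring
  | F4 =>
    obtain ⟨F, _, _, hF, ⟨e⟩⟩ := h
    rw [Nat.card_congr e.toEquiv, S1062.result hF]
    simp only [LT.dd, LT.expo, LT.cof]; ring
  | E6 =>
    obtain ⟨F, _, _, hF, ⟨e⟩⟩ := h
    rw [Nat.card_congr e.toEquiv]
    have := S1063.result hF
    simp only [LT.dd, LT.expo, LT.cof]
    rw [this]; ring
  | E7 =>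
    obtain ⟨F, _, _, hF, ⟨e⟩⟩ := h
    rw [Nat.card_congr e.toEquiv]
    have := S1064.result hF
    simp only [LT.dd, LT.expo, LT.cof]
    rw [this]; ring
  | E8 =>
    obtain ⟨F, _, _, hF, ⟨e⟩⟩ := h
    rw [Nat.card_congr e.toEquiv, S1065.result hF]
    simp only [LT.dd, LT.expo, LT.cof]; ring
  | TE6 =>
    obtain ⟨F, _, _, hF, ⟨e⟩⟩ := h
    rw [Nat.card_congr e.toEquiv]
    have := S1066.result hpp hF
    simp only [LT.dd, LT.expo, LT.cof]
    rw [this]; ring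
  | TD4 =>
    obtain ⟨F, _, _, hF, ⟨e⟩⟩ := h
    rw [Nat.card_congr e.toEquiv, S1067.result hpp hF]
    simp only [LT.dd, LT.expo, LT.cof]; ring
  | Sz =>
    obtain ⟨F, _, _, m, hm, hF, hq, ⟨e⟩⟩ := h
    rw [hq] at hF ⊢
    rw [Nat.card_congr e.toEquiv, (S1163.result hm hF).1]
    simp only [LT.dd, LT.expo, LT.cof]; ring
  | Ree =>
    obtain ⟨F, _, _, m, hm, hF, hq, ⟨e⟩⟩ := h
    rw [hq] at hF ⊢
    rw [Nat.card_congr e.toEquiv, S1069.result hF]
    simp only [LT.dd, LT.expo, LT.cof]; ring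
  | TF4 =>
    obtain ⟨F, _, _, m, hm, hF, hq, ⟨e⟩⟩ := h
    rw [hq] at hF ⊢
    rw [Nat.card_congr e.toEquiv, S1068.result hF]
    simp only [LT.dd, LT.expo, LT.cof]; ring

/-- the order formula as an `IsOrd` -/
theorem LT.Rep.isOrd {T : LT} {p f : ℕ} (hp : p.Prime) (hf : f ≠ 0) (hv : T.Valid p f) {G : Type u} [Group G]
    (h : T.Rep (p ^ f) G) : IsOrd T p f (Nat.card G) :=
  ⟨hp, hf, hv, h.card hp hf hv⟩

/-- `G` is the simple group of Lie type `T` over the field with `p ^ f` elements. -/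
structure IsLie (T : LT) (p f : ℕ) (G : Type u) [Group G] : Prop where
  prime : p.Prime
  f_ne : f ≠ 0
  valid : T.Valid p f
  rep : T.Rep (p ^ f) G

theorem IsLie.isOrd {T : LT} {p f : ℕ} {G : Type u} [Group G] (h : IsLie T p f G) : IsOrd T p f (Nat.card G) :=
  h.rep.isOrd h.prime h.f_ne h.valid

/-- the classification, in the form: prime order, alternating, of Lie type with an order code, Tits, or sporadic -/
theorem cases (G : Type u) [Group G] [Finite G] [IsSimpleGroup G] :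
    (Nat.card G).Prime ∨ (∃ n, 5 ≤ n ∧ Nonempty (G ≃* alternatingGroup (Fin n))) ∨
    (∃ T p f, IsLie T p f G) ∨ Lie.IsoTits G ∨ IsSporadicGroup G := by
  rcases (S0000.result : IsKnownSimple' G) with h | h | h | h | h | h | h | h | h | h
  · exact .inl h
  · exact .inr (.inl h)
  · obtain ⟨F, _, _, n, hn, hn2, e⟩ := h
    obtain ⟨p, f, hp, hf, hF⟩ := exists_pow F
    exact .inr (.inr (.inl ⟨.A n, p, f, hp, hf, ⟨hn, fun h => hF ▸ hn2 h⟩, F, _, _, hF, e⟩))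
  · obtain ⟨F, _, _, m, hm, hm2, e⟩ := h
    obtain ⟨p, f, hp, hf, hF⟩ := exists_pow F
    exact .inr (.inr (.inl ⟨.C m, p, f, hp, hf, ⟨hm, fun h => hF ▸ hm2 h⟩, .inl ⟨F, _, _, hF, e⟩⟩))
  · obtain ⟨F, _, _, n, q, hF, hn, hn2, e⟩ := h
    obtain ⟨p, f, hp, hf, rfl⟩ := root_pow (by norm_num) (exists_pow F) hF
    exact .inr (.inr (.inl ⟨.U n, p, f, hp, hf, ⟨hn, hn2⟩, F, _, _, hF, e⟩))
  · obtain ⟨F, _, _, m, hm, ho, e⟩ := h
    obtain ⟨p, f, hp, hf, hF⟩ := exists_pow F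
    exact .inr (.inr (.inl ⟨.C m, p, f, hp, hf, ⟨by omega, fun h => by omega⟩, .inr ⟨hm, hF ▸ ho, F, _, _, hF, e⟩⟩))
  · obtain ⟨F, _, _, m, hm, e⟩ := h
    obtain ⟨p, f, hp, hf, hF⟩ := exists_pow F
    exact .inr (.inr (.inl ⟨.P m, p, f, hp, hf, hm, F, _, _, hF, e⟩))
  · obtain ⟨F, _, _, m, a, b, hm, hab, e⟩ := h
    obtain ⟨p, f, hp, hf, hF⟩ := exists_pow F
    exact .inr (.inr (.inl ⟨.M m, p, f, hp, hf, hm, F, _, _, a, b, hF, hab, e⟩))
  · rcases h with h | h | h | h | h | h | h | h | h | h | h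
    · obtain ⟨F, _, _, h3, e⟩ := h
      obtain ⟨p, f, hp, hf, hF⟩ := exists_pow F
      exact .inr (.inr (.inl ⟨.G2, p, f, hp, hf, (by rw [hF] at h3; exact h3), F, _, _, hF, e⟩))
    · obtain ⟨F, _, _, e⟩ := h
      obtain ⟨p, f, hp, hf, hF⟩ := exists_pow F
      exact .inr (.inr (.inl ⟨.F4, p, f, hp, hf, trivial, F, _, _, hF, e⟩))
    · obtain ⟨F, _, _, e⟩ := h
      obtain ⟨p, f, hp, hf, hF⟩ := exists_pow F
      exact .inr (.inr (.inl ⟨.E6, p, f, hp, hf, trivial, F, _, _, hF, e⟩))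
    · obtain ⟨F, _, _, e⟩ := h
      obtain ⟨p, f, hp, hf, hF⟩ := exists_pow F
      exact .inr (.inr (.inl ⟨.E7, p, f, hp, hf, trivial, F, _, _, hF, e⟩))
    · obtain ⟨F, _, _, e⟩ := h
      obtain ⟨p, f, hp, hf, hF⟩ := exists_pow F
      exact .inr (.inr (.inl ⟨.E8, p, f, hp, hf, trivial, F, _, _, hF, e⟩))
    · obtain ⟨F, _, _, q, hpp, hF, e⟩ := h
      obtain ⟨p, f, hp, hf, rfl⟩ := root_pow (by norm_num) (exists_pow F) hF
      exact .inr (.inr (.inl ⟨.TE6, p, f, hp, hf, trivial, F, _, _, hF, e⟩))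
    · obtain ⟨F, _, _, q, hpp, hF, e⟩ := h
      obtain ⟨p, f, hp, hf, rfl⟩ := root_pow (by norm_num) (exists_pow F) hF
      exact .inr (.inr (.inl ⟨.TD4, p, f, hp, hf, trivial, F, _, _, hF, e⟩))
    · obtain ⟨F, _, _, m, hm, hF, e⟩ := h
      exact .inr (.inr (.inl ⟨.Sz, 2, 2 * m + 1, Nat.prime_two, by omega, ⟨rfl, m, hm, rfl⟩, F, _, _, m, hm, hF, rfl, e⟩))
    · obtain ⟨F, _, _, m, hm, hF, e⟩ := h
      exact .inr (.inr (.inl ⟨.Ree, 3, 2 * m + 1, Nat.prime_three, by omega, ⟨rfl, m, hm, rfl⟩, F, _, _, m, hm, hF, rfl, e⟩))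
    · obtain ⟨F, _, _, m, hm, hF, e⟩ := h
      exact .inr (.inr (.inl ⟨.TF4, 2, 2 * m + 1, Nat.prime_two, by omega, ⟨rfl, m, hm, rfl⟩, F, _, _, m, hm, hF, rfl, e⟩))
    · exact .inr (.inr (.inr (.inl h)))
  · exact .inr (.inr (.inr (.inr h)))

/-- twice the order of the alternating group is a factorial -/
theorem two_mul_card_alt {G : Type u} [Group G] {n : ℕ} (hn : 2 ≤ n) (e : G ≃* alternatingGroup (Fin n)) :
    2 * Nat.card G = n.factorial := by
  have : Nontrivial (Fin n) := Fin.nontrivial_iff_two_le.2 hn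
  rw [Nat.card_congr e.toEquiv, Nat.card_eq_fintype_card, two_mul_card_alternatingGroup, Fintype.card_perm,
    Fintype.card_fin]

end Cfsg.Agent.H437
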