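import Cfsg.Agent.H437.Cyc
set_option autoImplicit false
namespace Cfsg.Agent.H437

/-- the orders of the sporadic groups and of the Tits group -/
def sporList : List ℕ :=
  [7920, 95040, 443520, 10200960, 244823040, 175560, 604800, 50232960, 86775571046077562880, 4157776806543360000,
   42305421312000, 495766656000, 898128000, 44352000, 448345497600, 4030387200, 145926144000, 460815505920,
   51765179004000000, 64561751654400, 4089470473293004800, 1255205709190661721292800, 273030912000000,
   90745943887872000, 4154781481226426191177580544000000,
   808017424794512875886459904961710757005754368000000000, 17971200]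

theorem spor_prime : ∀ N ∈ sporList, ∃ r ∈ [5, 7, 11, 13, 17], r ∣ N ∧ ¬ r ^ 2 ∣ N := by
  decide

theorem spor_not_pow {N m k : ℕ} (h : N ∈ sporList) (hk : 2 ≤ k) : N ≠ m ^ k := by
  obtain ⟨r, hr, h2, h3⟩ := spor_prime _ h
  refine not_pow_of_prime (r := r) ?_ h2 h3 hk
  simp only [List.mem_cons, List.not_mem_nil, or_false] at hr
  rcases hr with rfl | rfl | rfl | rfl | rfl <;> norm_num

end Cfsg.Agent.H437
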