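import Cfsg.Agent.H437.NotPow
set_option autoImplicit false
namespace Cfsg.Agent.H437
open Finset

/-! ### small lemmas on powers -/

theorem succ_pow_ge {x l : ℕ} (hl : 2 ≤ l) : x ^ l + 2 * x ^ (l - 1) + 1 ≤ (x + 1) ^ l := by
  induction l, hl using Nat.le_induction with
  | base => simp; nlinarith
  | succ n hn ih =>
    obtain ⟨k, rfl⟩ : ∃ k, n = k + 1 := ⟨n - 1, by omega⟩
    simp only [Nat.add_sub_cancel] at ih ⊢
    have h1 : (x + 1) ^ (k + 1 + 1) = (x + 1) * (x + 1) ^ (k + 1) := by ring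
    rw [h1]
    calc x ^ (k + 1 + 1) + 2 * x ^ (k + 1) + 1 ≤ (x + 1) * (x ^ (k + 1) + 2 * x ^ k + 1) := by
          have : (x + 1) * (x ^ (k + 1) + 2 * x ^ k + 1) = x ^ (k + 1 + 1) + 2 * x ^ (k + 1) + 1 + (x + x ^ (k + 1) + 2 * x ^ k) := by
            ring
          omega
      _ ≤ _ := Nat.mul_le_mul_left _ ih

theorem pow_gap {a b l : ℕ} (hl : 2 ≤ l) (ha : 1 ≤ a) (hab : a ^ l < b ^ l) : a ^ l + 3 ≤ b ^ l := by
  have h1 : a < b := lt_of_pow_lt_pow_left₀ l (Nat.zero_le _) hab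
  have h2 : (a + 1) ^ l ≤ b ^ l := Nat.pow_le_pow_left h1 l
  have h3 := succ_pow_ge (x := a) hl
  have h4 : 1 ≤ a ^ (l - 1) := Nat.one_le_pow _ _ ha
  omega

/-- `q² + q + 1` is not an `l`-th power when `q` is -/
theorem size_plus {q a z l : ℕ} (hl : 2 ≤ l) (hq : 1 ≤ q) (ha : q = a ^ l) (hz : q ^ 2 + q + 1 = z ^ l) : False := by
  have ha1 : 1 ≤ a := by
    rcases Nat.eq_zero_or_pos a with h | h
    · rw [h, zero_pow (by omega)] at ha; omega
    · exact h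
  have h1 : (a ^ 2) ^ l = q ^ 2 := by rw [ha, ← pow_mul, ← pow_mul, mul_comm]
  have h2 : a ^ 2 < z := lt_of_pow_lt_pow_left₀ l (Nat.zero_le _) (by rw [h1, ← hz]; omega)
  have h3 : (a ^ 2 + 1) ^ l ≤ z ^ l := Nat.pow_le_pow_left h2 l
  have h4 := succ_pow_ge (x := a ^ 2) hl
  have h5 : q ≤ (a ^ 2) ^ (l - 1) := by
    rw [ha, ← pow_mul]
    exact Nat.pow_le_pow_right ha1 (by omega)
  rw [h1] at h4
  omega

/-- `q² - q + 1` is not an `l`-th power when `q` is, `l ≥ 3` -/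
theorem size_minus {q a z l : ℕ} (hl : 3 ≤ l) (hq : 2 ≤ q) (ha : q = a ^ l) (hz : q ^ 2 - q + 1 = z ^ l) : False := by
  have ha1 : 2 ≤ a := by
    rcases Nat.lt_or_ge a 2 with h | h
    · interval_cases a
      · rw [zero_pow (by omega)] at ha; omega
      · rw [one_pow] at ha; omega
    · exact h
  have hqq : q < q ^ 2 := by nlinarith
  have h1 : (a ^ 2) ^ l = q ^ 2 := by rw [ha, ← pow_mul, ← pow_mul, mul_comm]
  have h2 : z < a ^ 2 := lt_of_pow_lt_pow_left₀ l (Nat.zero_le _) (by rw [h1, ← hz]; omega)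
  obtain ⟨x, hx⟩ : ∃ x, a ^ 2 = x + 1 := ⟨a ^ 2 - 1, by omega⟩
  have h3 : z ^ l ≤ x ^ l := Nat.pow_le_pow_left (by omega) l
  have h4 := succ_pow_ge (x := x) (l := l) (by omega)
  rw [← hx, h1] at h4
  have hxa : a ^ 3 ≤ x ^ 2 := by
    have e1 : x = a ^ 2 - 1 := by omega
    obtain ⟨b, rfl⟩ : ∃ b, a = b + 2 := ⟨a - 2, by omega⟩
    have e2 : x = b ^ 2 + 4 * b + 3 := by rw [e1]; ring_nf; omega
    rw [e2]
    nlinarith [Nat.zero_le (b^4), Nat.zero_le (b^3), Nat.zero_le (b^2)]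
  have hxa' : a ≤ x := by nlinarith
  have h5 : q ≤ x ^ (l - 1) := by
    obtain ⟨k, rfl⟩ : ∃ k, l = k + 3 := ⟨l - 3, by omega⟩
    rw [ha]
    calc a ^ (k + 3) = a ^ k * a ^ 3 := by ring
      _ ≤ x ^ k * x ^ 2 := Nat.mul_le_mul (Nat.pow_le_pow_left hxa' k) hxa
      _ = x ^ (k + 3 - 1) := by rw [← pow_add]; congr 1
  omega

theorem not_sq_plus {q z : ℕ} (hq : 1 ≤ q) (hz : q ^ 2 + q + 1 = z ^ 2) : False := by
  have h1 : q < z := by
    by_contra h
    have := Nat.pow_le_pow_left (Nat.le_of_not_lt h) 2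
    omega
  nlinarith

theorem not_sq_minus {q z : ℕ} (hq : 2 ≤ q) (hz : q ^ 2 - q + 1 = z ^ 2) : False := by
  have hqq : q < q ^ 2 := by nlinarith
  have h1 : z < q := by
    by_contra h
    have := Nat.pow_le_pow_left (Nat.le_of_not_lt h) 2
    omega
  obtain ⟨r, rfl⟩ : ∃ r, q = r + 1 := ⟨q - 1, by omega⟩
  have h2 : (r + 1) ^ 2 = r ^ 2 + 2 * r + 1 := by ring
  have h3 : r ^ 2 + r + 1 = z ^ 2 := by omega
  exact not_sq_plus (by omega) h3

theorem not_pow_of_prime {N m k r : ℕ} (hr : r.Prime) (h1 : r ∣ N) (h2 : ¬ r ^ 2 ∣ N) (hk : 2 ≤ k) : N ≠ m ^ k := by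
  rintro rfl
  have := hr.dvd_of_dvd_pow h1
  exact h2 (((pow_dvd_pow_of_dvd this 2)).trans (pow_dvd_pow m hk))


/-- `Z` is an odd number all of whose prime divisors `r` satisfy `ord_r(q) = h` -/
structure HH (q h Z : ℕ) : Prop where
  two_le : 2 ≤ q
  h_ne : h ≠ 0
  odd : Z % 2 = 1
  ord : ∀ r : ℕ, r.Prime → r ∣ Z → ∀ d, (r ∣ q ^ d - 1 ↔ h ∣ d)

namespace HH

variable {q h Z : ℕ}

theorem pos (H : HH q h Z) : 0 < Z := by have := H.odd; omega

theorem cop_two (H : HH q h Z) : Nat.Coprime Z 2 := (Nat.coprime_two_right).2 (Nat.odd_iff.2 H.odd)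

theorem cop_four (H : HH q h Z) : Nat.Coprime Z 4 := by
  have := H.cop_two.mul_right H.cop_two
  simpa using this

theorem cop_sub (H : HH q h Z) {d : ℕ} (hd : ¬ h ∣ d) : Nat.Coprime Z (q ^ d - 1) := by
  apply Nat.Coprime.symm
  rw [Nat.coprime_iff_gcd_eq_one]
  by_contra hg
  obtain ⟨r, hr, hrg⟩ := Nat.exists_prime_and_dvd hg
  exact hd ((H.ord r hr (hrg.trans (Nat.gcd_dvd_right _ _)) d).1 (hrg.trans (Nat.gcd_dvd_left _ _)))

theorem cop_add (H : HH q h Z) {d : ℕ} (hd : ¬ h ∣ 2 * d ∨ h ∣ d) : Nat.Coprime Z (q ^ d + 1) := by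
  apply Nat.Coprime.symm
  rw [Nat.coprime_iff_gcd_eq_one]
  by_contra hg
  obtain ⟨r, hr, hrg⟩ := Nat.exists_prime_and_dvd hg
  have h1 : r ∣ q ^ d + 1 := hrg.trans (Nat.gcd_dvd_left _ _)
  have h2 : r ∣ Z := hrg.trans (Nat.gcd_dvd_right _ _)
  have hq1 : 1 ≤ q ^ d := Nat.one_le_pow _ _ (by have := H.two_le; omega)
  rcases hd with hd | hd
  · apply hd
    rw [← H.ord r hr h2]
    have e : q ^ (2 * d) - 1 = (q ^ d + 1) * (q ^ d - 1) := by
      rw [mul_comm 2 d, pow_mul, ← Nat.sq_sub_sq, one_pow]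
    rw [e]
    exact Dvd.dvd.mul_right h1 _
  · have h3 := (H.ord r hr h2 d).2 hd
    have h4 : r ∣ 2 := by
      have := (Nat.dvd_sub h1 h3)
      have e : q ^ d + 1 - (q ^ d - 1) = 2 := by omega
      rwa [e] at this
    have h5 := (Nat.prime_dvd_prime_iff_eq hr Nat.prime_two).1 h4
    rw [h5] at h2
    have := H.odd
    omega

theorem cop_q (H : HH q h Z) (n : ℕ) : Nat.Coprime Z (q ^ n) := by
  apply Nat.Coprime.pow_right
  apply Nat.Coprime.symm
  rw [Nat.coprime_iff_gcd_eq_one]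
  by_contra hg
  obtain ⟨r, hr, hrg⟩ := Nat.exists_prime_and_dvd hg
  have h1 : r ∣ q := hrg.trans (Nat.gcd_dvd_left _ _)
  have h2 : r ∣ Z := hrg.trans (Nat.gcd_dvd_right _ _)
  have h3 := (H.ord r hr h2 h).2 dvd_rfl
  have h4 : r ∣ q ^ h := dvd_pow h1 H.h_ne
  have hq1 : 1 ≤ q ^ h := Nat.one_le_pow _ _ (by have := H.two_le; omega)
  have h5 : r ∣ 1 := by
    have := Nat.dvd_sub h4 h3
    have e : q ^ h - (q ^ h - 1) = 1 := by omega
    rwa [e] at this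
  exact hr.one_lt.ne' (Nat.dvd_one.1 h5)

theorem cop_sub_one (H : HH q h Z) (h3 : 3 ≤ h) : Nat.Coprime Z (q - 1) := by
  have := H.cop_sub (d := 1) (fun h => by have := Nat.le_of_dvd (by norm_num) h; omega)
  simpa using this

theorem cop_add_one (H : HH q h Z) (h3 : 3 ≤ h) : Nat.Coprime Z (q + 1) := by
  have := H.cop_add (d := 1) (.inl (fun h => by have := Nat.le_of_dvd (by norm_num) h; omega))
  simpa using this

/-- a prime divisor of `Z` is `1` modulo `h` -/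
theorem dvd_sub_one (H : HH q h Z) {r : ℕ} (hr : r.Prime) (hrZ : r ∣ Z) : h ∣ r - 1 := by
  rw [← H.ord r hr hrZ]
  have hF := Fact.mk hr
  have h1 : Nat.Coprime q r := by
    have := Nat.Coprime.coprime_dvd_left hrZ (H.cop_q 1)
    rw [pow_one] at this
    exact this.symm
  have h2 : q ^ (r - 1) ≡ 1 [MOD r] := by
    have := Nat.ModEq.pow_totient h1
    rwa [Nat.totient_prime hr] at this
  exact (Nat.modEq_iff_dvd' (Nat.one_le_pow _ _ (by have := H.two_le; omega))).1 h2.symm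

theorem cop_small (H : HH q h Z) {n : ℕ} (hn : n ≠ 0) (hle : n ≤ h) : Nat.Coprime Z n := by
  apply Nat.Coprime.symm
  rw [Nat.coprime_iff_gcd_eq_one]
  by_contra hg
  obtain ⟨r, hr, hrg⟩ := Nat.exists_prime_and_dvd hg
  have h1 : r ∣ n := hrg.trans (Nat.gcd_dvd_left _ _)
  have h2 : r ∣ Z := hrg.trans (Nat.gcd_dvd_right _ _)
  have h3 := H.dvd_sub_one hr h2
  have h4 := Nat.le_of_dvd (Nat.pos_of_ne_zero hn) h1
  have h5 := Nat.le_of_dvd (by have := hr.two_le; omega) h3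
  have := hr.two_le
  omega

end HH

theorem YY.hh {q j Y c : ℕ} (h : YY q j Y c) : HH q (2 ^ j) Y :=
  ⟨h.two_le, by positivity, h.Yodd, fun _ hr hd d => h.ord hr hd d⟩

/-- `q² + q + 1` -/
theorem plus_HH {q : ℕ} (hq : 2 ≤ q) : ∃ Z c, q ^ 2 + q + 1 = c * Z ∧ (q % 3 = 1 → c = 3) ∧ (q % 3 ≠ 1 → c = 1) ∧ Z % 3 ≠ 0 ∧
    HH q 3 Z := by
  have main : ∀ Z c : ℕ, q ^ 2 + q + 1 = c * Z → Z % 3 ≠ 0 → Z % 2 = 1 → HH q 3 Z := by
    intro Z c h1 h2 h3
    refine ⟨hq, by norm_num, h3, fun r hr hrZ d => ?_⟩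
    have hF := Fact.mk hr
    rw [Lib.Zsigmondy.dvd_pow_sub_one_iff (by omega)]
    have h4 : ((q ^ 2 + q + 1 : ℕ) : ZMod r) = 0 := by
      rw [ZMod.natCast_eq_zero_iff, h1]
      exact Dvd.dvd.mul_left hrZ c
    push_cast at h4
    have F3 : Fact (Nat.Prime 3) := ⟨Nat.prime_three⟩
    have h5 : orderOf (q : ZMod r) = 3 := by
      apply orderOf_eq_prime
      · linear_combination ((q : ZMod r) - 1) * h4
      · intro h6
        rw [h6] at h4
        have h7 : ((3 : ℕ) : ZMod r) = 0 := by push_cast; linear_combination h4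
        rw [ZMod.natCast_eq_zero_iff, Nat.prime_dvd_prime_iff_eq hr Nat.prime_three] at h7
        rw [h7] at hrZ
        omega
    rw [h5]
  have h2 : (q ^ 2 + q + 1) % 2 = 1 := by
    rcases Nat.even_or_odd' q with ⟨k, rfl | rfl⟩
    · ring_nf; omega
    · ring_nf; omega
  have h3 : q % 3 = 0 ∨ q % 3 = 1 ∨ q % 3 = 2 := by omega
  have hk : q = 3 * (q / 3) + q % 3 := (Nat.div_add_mod q 3).symm
  generalize q / 3 = k at hk
  rcases h3 with h3 | h3 | h3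
  · rw [h3, add_zero] at hk
    have e : q ^ 2 + q + 1 = 3 * (3 * k ^ 2 + k) + 1 := by rw [hk]; ring
    refine ⟨q ^ 2 + q + 1, 1, (one_mul _).symm, by omega, fun _ => rfl, by rw [e]; omega, main _ 1 (one_mul _).symm (by rw [e]; omega) h2⟩
  · rw [h3] at hk
    have e : q ^ 2 + q + 1 = 3 * (3 * (k ^ 2 + k) + 1) := by rw [hk]; ring
    refine ⟨3 * (k ^ 2 + k) + 1, 3, e, fun _ => rfl, by omega, by omega, main _ 3 e (by omega) (by omega)⟩
  · rw [h3] at hk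
    have e : q ^ 2 + q + 1 = 3 * (3 * k ^ 2 + 5 * k + 2) + 1 := by rw [hk]; ring
    refine ⟨q ^ 2 + q + 1, 1, (one_mul _).symm, by omega, fun _ => rfl, by rw [e]; omega, main _ 1 (one_mul _).symm (by rw [e]; omega) h2⟩

theorem orderOf_six {R : Type*} [CommRing R] [IsDomain R] {x : R} (h : x ^ 2 - x + 1 = 0) (h2 : (2 : R) ≠ 0) (h3 : (3 : R) ≠ 0) :
    orderOf x = 6 := by
  apply orderOf_eq_of_pow_and_pow_div_prime (by norm_num)
  · linear_combination (x ^ 4 + x ^ 3 - x - 1) * h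
  · intro p hp hp6
    have h6 : p ∣ 2 * 3 := by simpa using hp6
    rcases (Nat.Prime.dvd_mul hp).1 h6 with h7 | h7
    · rw [Nat.prime_dvd_prime_iff_eq hp Nat.prime_two] at h7
      subst h7
      rw [show 6 / 2 = 3 from rfl]
      intro h8
      apply h2
      linear_combination (x + 1) * h - h8
    · rw [Nat.prime_dvd_prime_iff_eq hp Nat.prime_three] at h7
      subst h7
      rw [show 6 / 3 = 2 from rfl]
      intro h8
      apply h3
      have h9 : x = 2 := by linear_combination h8 - h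
      rw [h9] at h
      linear_combination h

/-- `q² - q + 1` -/
theorem minus_HH {q : ℕ} (hq : 2 ≤ q) : ∃ Z c, q ^ 2 - q + 1 = c * Z ∧ (q % 3 = 2 → c = 3) ∧ (q % 3 ≠ 2 → c = 1) ∧ Z % 3 ≠ 0 ∧
    HH q 6 Z := by
  have main : ∀ Z c : ℕ, q ^ 2 - q + 1 = c * Z → Z % 3 ≠ 0 → Z % 2 = 1 → HH q 6 Z := by
    intro Z c h1 h2 h3
    refine ⟨hq, by norm_num, h3, fun r hr hrZ d => ?_⟩
    have hF := Fact.mk hr
    rw [Lib.Zsigmondy.dvd_pow_sub_one_iff (by omega)]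
    have h4 : ((q ^ 2 - q + 1 : ℕ) : ZMod r) = 0 := by
      rw [ZMod.natCast_eq_zero_iff, h1]
      exact Dvd.dvd.mul_left hrZ c
    rw [Nat.cast_add, Nat.cast_sub (by nlinarith)] at h4
    push_cast at h4
    have e2 : (2 : ZMod r) ≠ 0 := by
      intro h
      have : ((2 : ℕ) : ZMod r) = 0 := by exact_mod_cast h
      rw [ZMod.natCast_eq_zero_iff, Nat.prime_dvd_prime_iff_eq hr Nat.prime_two] at this
      rw [this] at hrZ
      omega
    have e3 : (3 : ZMod r) ≠ 0 := by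
      intro h
      have : ((3 : ℕ) : ZMod r) = 0 := by exact_mod_cast h
      rw [ZMod.natCast_eq_zero_iff, Nat.prime_dvd_prime_iff_eq hr Nat.prime_three] at this
      rw [this] at hrZ
      omega
    rw [orderOf_six h4 e2 e3]
  obtain ⟨s, rfl⟩ : ∃ s, q = s + 1 := ⟨q - 1, by omega⟩
  have e0 : (s + 1) ^ 2 - (s + 1) + 1 = s ^ 2 + s + 1 := by
    have : (s + 1) ^ 2 = s ^ 2 + 2 * s + 1 := by ring
    omega
  rw [e0] at main ⊢
  have h2 : (s ^ 2 + s + 1) % 2 = 1 := by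
    rcases Nat.even_or_odd' s with ⟨k, rfl | rfl⟩
    · ring_nf; omega
    · ring_nf; omega
  have h3 : s % 3 = 0 ∨ s % 3 = 1 ∨ s % 3 = 2 := by omega
  have hk : s = 3 * (s / 3) + s % 3 := (Nat.div_add_mod s 3).symm
  generalize s / 3 = k at hk
  rcases h3 with h3 | h3 | h3
  · rw [h3, add_zero] at hk
    have e : s ^ 2 + s + 1 = 3 * (3 * k ^ 2 + k) + 1 := by rw [hk]; ring
    refine ⟨s ^ 2 + s + 1, 1, (one_mul _).symm, by omega, fun _ => rfl, by rw [e]; omega, main _ 1 (one_mul _).symm (by rw [e]; omega) h2⟩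
  · rw [h3] at hk
    have e : s ^ 2 + s + 1 = 3 * (3 * (k ^ 2 + k) + 1) := by rw [hk]; ring
    refine ⟨3 * (k ^ 2 + k) + 1, 3, e, fun _ => rfl, by omega, by omega, main _ 3 e (by omega) (by omega)⟩
  · rw [h3] at hk
    have e : s ^ 2 + s + 1 = 3 * (3 * k ^ 2 + 5 * k + 2) + 1 := by rw [hk]; ring
    refine ⟨s ^ 2 + s + 1, 1, (one_mul _).symm, by omega, fun _ => rfl, by rw [e]; omega, main _ 1 (one_mul _).symm (by rw [e]; omega) h2⟩

theorem zz_HH {q i : ℕ} (hq : 2 ≤ q) (hi : 1 ≤ i) : HH q (3 * 2 ^ (i + 1)) ((q ^ 2 ^ i) ^ 2 - q ^ 2 ^ i + 1) := by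
  obtain ⟨j, rfl⟩ : ∃ j, i = j + 1 := ⟨i - 1, by omega⟩
  have hX : q ^ 2 ^ (j + 1) = (q ^ 2 ^ j) ^ 2 := by rw [← pow_mul]; congr 1
  have hX1 : 1 ≤ q ^ 2 ^ (j + 1) := Nat.one_le_pow _ _ (by omega)
  obtain ⟨s, hs⟩ : ∃ s, q ^ 2 ^ (j + 1) = s + 1 := ⟨q ^ 2 ^ (j + 1) - 1, by omega⟩
  have e0 : (q ^ 2 ^ (j + 1)) ^ 2 - q ^ 2 ^ (j + 1) + 1 = s ^ 2 + s + 1 := by
    rw [hs]
    have : (s + 1) ^ 2 = s ^ 2 + 2 * s + 1 := by ring
    omega
  have hodd : (s ^ 2 + s + 1) % 2 = 1 := by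
    rcases Nat.even_or_odd' s with ⟨k, rfl | rfl⟩
    · ring_nf; omega
    · ring_nf; omega
  have h3 : (s ^ 2 + s + 1) % 3 = 1 := by
    have h4 := sq_mod_three (q ^ 2 ^ j)
    rw [← hX, hs] at h4
    have h5 : s % 3 = 0 ∨ s % 3 = 2 := by omega
    have hk : s = 3 * (s / 3) + s % 3 := (Nat.div_add_mod s 3).symm
    generalize s / 3 = k at hk
    rcases h5 with h5 | h5
    · rw [h5, add_zero] at hk
      have e : s ^ 2 + s + 1 = 3 * (3 * k ^ 2 + k) + 1 := by rw [hk]; ring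
      rw [e]; omega
    · rw [h5] at hk
      have e : s ^ 2 + s + 1 = 3 * (3 * k ^ 2 + 5 * k + 2) + 1 := by rw [hk]; ring
      rw [e]; omega
  refine ⟨hq, by positivity, by rw [e0]; exact hodd, fun r hr hrZ d => ?_⟩
  have hF := Fact.mk hr
  rw [Lib.Zsigmondy.dvd_pow_sub_one_iff (by omega)]
  have e2 : (2 : ZMod r) ≠ 0 := by
    intro h
    have : ((2 : ℕ) : ZMod r) = 0 := by exact_mod_cast h
    rw [ZMod.natCast_eq_zero_iff, Nat.prime_dvd_prime_iff_eq hr Nat.prime_two] at this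
    rw [this, e0] at hrZ
    omega
  have e3 : (3 : ZMod r) ≠ 0 := by
    intro h
    have : ((3 : ℕ) : ZMod r) = 0 := by exact_mod_cast h
    rw [ZMod.natCast_eq_zero_iff, Nat.prime_dvd_prime_iff_eq hr Nat.prime_three] at this
    rw [this, e0] at hrZ
    omega
  rw [e0] at hrZ
  have h4 : ((s ^ 2 + s + 1 : ℕ) : ZMod r) = 0 := by
    rw [ZMod.natCast_eq_zero_iff]
    exact hrZ
  have hx : ((q : ZMod r) ^ 2 ^ (j + 1)) = (s : ZMod r) + 1 := by
    rw [← Nat.cast_pow, hs]; push_cast; ring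
  have h6 : ((q : ZMod r) ^ 2 ^ (j + 1)) ^ 2 - ((q : ZMod r) ^ 2 ^ (j + 1)) + 1 = 0 := by
    rw [hx]; push_cast at h4; linear_combination h4
  have h7 := orderOf_six h6 e2 e3
  set x := (q : ZMod r) ^ 2 ^ (j + 1) with hxdef
  have h8 : orderOf (q : ZMod r) = 3 * 2 ^ (j + 1 + 1) := by
    apply orderOf_eq_of_pow_and_pow_div_prime (by positivity)
    · have : 3 * 2 ^ (j + 1 + 1) = 2 ^ (j + 1) * 6 := by ring
      rw [this, pow_mul, ← hxdef, ← h7]
      exact pow_orderOf_eq_one x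
    · intro p hp hpd
      rcases (Nat.Prime.dvd_mul hp).1 hpd with h9 | h9
      · rw [Nat.prime_dvd_prime_iff_eq hp Nat.prime_three] at h9
        subst h9
        have : 3 * 2 ^ (j + 1 + 1) / 3 = 2 ^ (j + 1) * 2 := by
          rw [Nat.mul_div_cancel_left _ (by norm_num)]; ring
        rw [this, pow_mul, ← hxdef]
        intro h10
        have := orderOf_dvd_of_pow_eq_one h10
        rw [h7] at this
        exact absurd (Nat.le_of_dvd (by norm_num) this) (by norm_num)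
      · have h9 := hp.dvd_of_dvd_pow h9
        rw [Nat.prime_dvd_prime_iff_eq hp Nat.prime_two] at h9
        subst h9
        have : 3 * 2 ^ (j + 1 + 1) / 2 = 2 ^ (j + 1) * 3 := by
          rw [show 3 * 2 ^ (j + 1 + 1) = 2 * (2 ^ (j + 1) * 3) by ring, Nat.mul_div_cancel_left _ (by norm_num)]
        rw [this, pow_mul, ← hxdef]
        intro h10
        have := orderOf_dvd_of_pow_eq_one h10
        rw [h7] at this
        exact absurd (Nat.le_of_dvd (by norm_num) this) (by norm_num)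
  rw [h8]

theorem zz_not_sq {q i z : ℕ} (hq : 2 ≤ q) (h : (q ^ 2 ^ i) ^ 2 - q ^ 2 ^ i + 1 = z ^ 2) : False := by
  have h1 : 2 ≤ q ^ 2 ^ i := by
    calc 2 ≤ q := hq
      _ = q ^ 1 := (pow_one q).symm
      _ ≤ _ := Nat.pow_le_pow_right (by omega) Nat.one_le_two_pow
  generalize q ^ 2 ^ i = X at *
  have hqq : X < X ^ 2 := by nlinarith
  have h2 : z < X := by
    by_contra h
    have := Nat.pow_le_pow_left (Nat.le_of_not_lt h) 2
    omega
  obtain ⟨r, rfl⟩ : ∃ r, X = r + 1 := ⟨X - 1, by omega⟩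
  have h3 : (r + 1) ^ 2 = r ^ 2 + 2 * r + 1 := by ring
  have h4 : z ^ 2 ≤ r ^ 2 := Nat.pow_le_pow_left (by omega) 2
  omega

end Cfsg.Agent.H437
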