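import Cfsg.Agent.H437.Code
import Cfsg.Agent.H437.Dio
import Cfsg.Agent.Lib.Zsigmondy
set_option autoImplicit false
namespace Cfsg.Agent.H437
open Finset

/-- if `Y` is a coprime divisor of `d N`, coprime to `d`, and `N` is a `k`-th power then so is `Y` -/
theorem power_part {d N Y W m k : ℕ} (hY : 0 < Y) (hN : N = m ^ k) (h : d * N = Y * W) (hYW : Nat.Coprime Y W)
    (hYd : Nat.Coprime Y d) : ∃ z, Y = z ^ k := by
  have h1 : Y ∣ N := hYd.dvd_of_dvd_mul_left (h ▸ dvd_mul_right Y W)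
  obtain ⟨n', hn'⟩ := h1
  have h2 : d * n' = W := by
    rw [hn'] at h
    have : Y * (d * n') = Y * W := by rw [← h]; ring
    exact Nat.eq_of_mul_eq_mul_left hY this
  have h3 : Nat.Coprime Y n' := Nat.Coprime.coprime_dvd_right (h2 ▸ dvd_mul_left n' d) hYW
  exact pow_of_mul h3 (by rw [← hn', hN])

/-- `Y^e = z^k` with `e` prime to `k` -/
theorem root_of_coprime {Y z e k : ℕ} (hek : Nat.Coprime e k) (h : Y ^ e = z ^ k) : ∃ w, Y = w ^ k := by
  obtain ⟨c, hc, -⟩ := Nat.exists_eq_pow_of_exponent_coprime_of_pow_eq_pow hek h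
  exact ⟨c, hc⟩

/-- splitting one factor of a product -/
theorem prod_split {N : ℕ} {g : ℕ → ℕ} {i0 Y W0 : ℕ} (hi : i0 < N) (h0 : g i0 = Y * W0) (hc : Nat.Coprime Y W0)
    (h : ∀ i < N, i ≠ i0 → Nat.Coprime Y (g i)) : ∃ W, ∏ i ∈ range N, g i = Y * W ∧ Nat.Coprime Y W := by
  refine ⟨W0 * ∏ i ∈ (range N).erase i0, g i, ?_, ?_⟩
  · rw [← Finset.mul_prod_erase _ _ (mem_range.2 hi), h0, mul_assoc]
  · refine Nat.Coprime.mul_right hc (Nat.Coprime.prod_right fun i hi => ?_)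
    rw [mem_erase, mem_range] at hi
    exact h i hi.2 hi.1

theorem prod_cop {N : ℕ} {g : ℕ → ℕ} {Y : ℕ} (h : ∀ i < N, Nat.Coprime Y (g i)) : Nat.Coprime Y (∏ i ∈ range N, g i) :=
  Nat.Coprime.prod_right fun i hi => h i (mem_range.1 hi)

/-- the odd part of `q ^ (2 ^ (j-1)) + 1` -/
structure YY (q j Y c : ℕ) : Prop where
  two_le : 2 ≤ q
  hj : 2 ≤ j
  eq : q ^ 2 ^ (j - 1) + 1 = c * Y
  even : q % 2 = 0 → c = 1
  odd : q % 2 = 1 → c = 2
  Yodd : Y % 2 = 1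

theorem exists_YY {q j : ℕ} (hq : 2 ≤ q) (hj : 2 ≤ j) : ∃ Y c, YY q j Y c := by
  obtain ⟨i, rfl⟩ : ∃ i, j = i + 2 := ⟨j - 2, by omega⟩
  have e : q ^ 2 ^ (i + 2 - 1) = (q ^ 2 ^ i) ^ 2 := by
    rw [← pow_mul]; congr 1
  rcases Nat.even_or_odd' q with ⟨r, hr | hr⟩
  · refine ⟨q ^ 2 ^ (i + 2 - 1) + 1, 1, hq, by omega, by rw [one_mul], fun _ => rfl, fun h => by omega, ?_⟩
    have : 2 ∣ q ^ 2 ^ (i + 2 - 1) := Dvd.dvd.pow ⟨r, hr⟩ (by positivity)
    omega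
  · obtain ⟨s, hs⟩ : Odd (q ^ 2 ^ i) := (show Odd q from ⟨r, hr⟩).pow
    refine ⟨2 * (s ^ 2 + s) + 1, 2, hq, by omega, ?_, fun h => by omega, fun _ => rfl, by omega⟩
    rw [e, hs]; ring

theorem cop_two {Y : ℕ} (h : Y % 2 = 1) : Nat.Coprime Y 2 := (Nat.coprime_two_right).2 (Nat.odd_iff.2 h)

namespace YY

variable {q j Y c : ℕ}

theorem pos (h : YY q j Y c) : 0 < Y := by have := h.Yodd; omega

theorem c_cases (h : YY q j Y c) : c = 1 ∨ c = 2 := by
  rcases Nat.mod_two_eq_zero_or_one q with h' | h'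
  · exact .inl (h.even h')
  · exact .inr (h.odd h')

theorem cop_c (h : YY q j Y c) : Nat.Coprime Y c := by
  rcases h.c_cases with rfl | rfl
  · exact Nat.coprime_one_right _
  · exact cop_two h.Yodd

theorem ord {r : ℕ} (h : YY q j Y c) (hr : r.Prime) (hrY : r ∣ Y) (d : ℕ) : r ∣ q ^ d - 1 ↔ 2 ^ j ∣ d := by
  have hF := Fact.mk hr
  have hr2 : r ≠ 2 := by
    rintro rfl
    have := h.Yodd
    omega
  have hq : 1 ≤ q := by have := h.two_le; omega
  rw [Lib.Zsigmondy.dvd_pow_sub_one_iff hq]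
  have h1 : (q : ZMod r) ^ 2 ^ (j - 1) + 1 = 0 := by
    have : ((q ^ 2 ^ (j - 1) + 1 : ℕ) : ZMod r) = 0 := by
      rw [ZMod.natCast_eq_zero_iff, h.eq]
      exact Dvd.dvd.mul_left hrY c
    push_cast at this
    exact this
  have h2 : (q : ZMod r) ^ 2 ^ (j - 1) = -1 := by linear_combination h1
  have h3 : orderOf (q : ZMod r) = 2 ^ j := by
    have hj := h.hj
    have e : j = (j - 1) + 1 := by omega
    rw [e]
    have : Fact (Nat.Prime 2) := ⟨Nat.prime_two⟩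
    apply orderOf_eq_prime_pow
    · rw [h2]
      intro h4
      have h5 : ((2 : ℕ) : ZMod r) = 0 := by push_cast; linear_combination -h4
      rw [ZMod.natCast_eq_zero_iff] at h5
      exact hr2 ((Nat.prime_dvd_prime_iff_eq hr Nat.prime_two).1 h5)
    · rw [pow_succ, pow_mul, h2]; ring
  rw [h3]

theorem cop_sub (h : YY q j Y c) {d : ℕ} (hd : ¬ 2 ^ j ∣ d) : Nat.Coprime Y (q ^ d - 1) := by
  apply Nat.Coprime.symm
  rw [Nat.coprime_iff_gcd_eq_one]
  by_contra hg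
  obtain ⟨r, hr, hrg⟩ := Nat.exists_prime_and_dvd hg
  exact hd ((h.ord hr (hrg.trans (Nat.gcd_dvd_right _ _)) d).1 (hrg.trans (Nat.gcd_dvd_left _ _)))

theorem cop_add (h : YY q j Y c) {d : ℕ} (hd : ¬ 2 ^ j ∣ 2 * d ∨ 2 ^ j ∣ d) : Nat.Coprime Y (q ^ d + 1) := by
  apply Nat.Coprime.symm
  rw [Nat.coprime_iff_gcd_eq_one]
  by_contra hg
  obtain ⟨r, hr, hrg⟩ := Nat.exists_prime_and_dvd hg
  have h1 : r ∣ q ^ d + 1 := hrg.trans (Nat.gcd_dvd_left _ _)
  have h2 : r ∣ Y := hrg.trans (Nat.gcd_dvd_right _ _)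
  have hq1 : 1 ≤ q ^ d := Nat.one_le_pow _ _ (by have := h.two_le; omega)
  rcases hd with hd | hd
  · apply hd
    rw [← h.ord hr h2]
    have e : q ^ (2 * d) - 1 = (q ^ d + 1) * (q ^ d - 1) := by
      rw [mul_comm 2 d, pow_mul, ← Nat.sq_sub_sq, one_pow]
    rw [e]
    exact Dvd.dvd.mul_right h1 _
  · have h3 := (h.ord hr h2 d).2 hd
    have h4 : r ∣ 2 := by
      have := (Nat.dvd_sub h1 h3)
      have e : q ^ d + 1 - (q ^ d - 1) = 2 := by omega
      rwa [e] at this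
    have h5 := (Nat.prime_dvd_prime_iff_eq hr Nat.prime_two).1 h4
    rw [h5] at h2
    have := h.Yodd
    omega

theorem cop_q (h : YY q j Y c) (n : ℕ) : Nat.Coprime Y (q ^ n) := by
  apply Nat.Coprime.pow_right
  have h1 : Nat.Coprime (c * Y) q := by
    rw [← h.eq]
    have e : (2 : ℕ) ^ (j - 1) ≠ 0 := by positivity
    obtain ⟨k, hk⟩ := Nat.exists_eq_succ_of_ne_zero e
    rw [hk, pow_succ, mul_comm (q ^ k)]
    rw [Nat.coprime_mul_left_add_left]
    exact Nat.coprime_one_left q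
  exact Nat.Coprime.coprime_mul_left h1

theorem two_pow_dvd_one (h : YY q j Y c) : ¬ 2 ^ j ∣ 1 := by
  intro hd
  have := Nat.le_of_dvd one_pos hd
  have := h.hj
  have : 2 ^ 2 ≤ 2 ^ j := Nat.pow_le_pow_right (by norm_num) h.hj
  omega

theorem two_pow_dvd_two (h : YY q j Y c) : ¬ 2 ^ j ∣ 2 := by
  intro hd
  have := Nat.le_of_dvd two_pos hd
  have : 2 ^ 2 ≤ 2 ^ j := Nat.pow_le_pow_right (by norm_num) h.hj
  omega

theorem cop_sub_one (h : YY q j Y c) : Nat.Coprime Y (q - 1) := by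
  have := h.cop_sub h.two_pow_dvd_one
  rwa [pow_one] at this

theorem cop_add_one (h : YY q j Y c) : Nat.Coprime Y (q + 1) := by
  have := h.cop_add (d := 1) (.inl (by rw [mul_one]; exact h.two_pow_dvd_two))
  rwa [pow_one] at this

theorem cop_two' (h : YY q j Y c) : Nat.Coprime Y 2 := cop_two h.Yodd

theorem cop_four (h : YY q j Y c) : Nat.Coprime Y 4 := by
  rw [show 4 = 2 ^ 2 by norm_num]; exact h.cop_two'.pow_right 2

/-- the factor `q ^ (2^j) - 1` -/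
theorem split (h : YY q j Y c) : ∃ W0, q ^ 2 ^ j - 1 = Y * W0 ∧ Nat.Coprime Y W0 := by
  have hj := h.hj
  refine ⟨c * (q ^ 2 ^ (j - 1) - 1), ?_, ?_⟩
  · have e : 2 ^ j = 2 ^ (j - 1) * 2 := by rw [← pow_succ]; congr 1; omega
    have e2 : q ^ 2 ^ j - 1 = (q ^ 2 ^ (j - 1) + 1) * (q ^ 2 ^ (j - 1) - 1) := by
      rw [e, pow_mul, ← Nat.sq_sub_sq, one_pow]
    rw [e2, h.eq]; ring
  · refine Nat.Coprime.mul_right h.cop_c (h.cop_sub ?_)
    intro hd
    have := Nat.le_of_dvd (by positivity) hd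
    have e : 2 ^ j = 2 * 2 ^ (j - 1) := by rw [← pow_succ']; congr 1; omega
    have : 0 < 2 ^ (j - 1) := by positivity
    omega

end YY

/-- `T` over `q`: `Y^e` splits off -/
def Fac (T : LT) (q j e : ℕ) : Prop :=
  ∀ Y c, YY q j Y c → ∃ W, q ^ T.expo * T.cof q = Y ^ e * W ∧ Nat.Coprime Y W ∧ Nat.Coprime Y (T.dd q)

theorem log_spec {n : ℕ} (hn : 1 ≤ n) : 2 ^ Nat.log 2 n ≤ n ∧ n < 2 * 2 ^ Nat.log 2 n := by
  refine ⟨Nat.pow_log_le_self 2 (by omega), ?_⟩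
  have := Nat.lt_pow_succ_log_self (b := 2) (by norm_num) n
  rw [Nat.succ_eq_add_one, pow_succ] at this
  omega

theorem multiple_eq {a d : ℕ} (hd : a ∣ d) (h0 : d ≠ 0) (h : d < 2 * a) : d = a := by
  obtain ⟨k, rfl⟩ := hd
  have : k ≠ 0 := by rintro rfl; simp at h0
  have : k < 2 := by
    by_contra hk
    have : a * 2 ≤ a * k := Nat.mul_le_mul_left a (by omega)
    omega
  have : k = 1 := by omega
  rw [this, mul_one]

theorem fac_A {q n : ℕ} (hn : 4 ≤ n) : Fac (.A n) q (Nat.log 2 n) 1 := by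
  intro Y c h
  obtain ⟨h1, h2⟩ := log_spec (show 1 ≤ n by omega)
  have hj := h.hj
  have h4 : 4 ≤ 2 ^ Nat.log 2 n := by
    calc 4 = 2 ^ 2 := by norm_num
      _ ≤ _ := Nat.pow_le_pow_right (by norm_num) hj
  obtain ⟨W0, hW0, hc0⟩ := h.split
  have e0 : 2 ^ Nat.log 2 n - 2 + 2 = 2 ^ Nat.log 2 n := by omega
  obtain ⟨W, hW, hcW⟩ := prod_split (N := n - 1) (g := fun i => q ^ (i + 2) - 1) (i0 := 2 ^ Nat.log 2 n - 2)
    (Y := Y) (W0 := W0) (by omega) (by rw [e0]; exact hW0) hc0 (by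
      intro i hi hne
      apply h.cop_sub
      intro hd
      have := multiple_eq hd (by omega) (by omega)
      omega)
  refine ⟨q ^ (LT.A n).expo * W, ?_, ?_, ?_⟩
  · rw [show (LT.A n).cof q = ∏ i ∈ range (n - 1), (q ^ (i + 2) - 1) from rfl, hW, pow_one]; ring
  · exact Nat.Coprime.mul_right (h.cop_q _) hcW
  · exact Nat.Coprime.coprime_dvd_right (Nat.gcd_dvd_right _ _) h.cop_sub_one

theorem fac_U {q n : ℕ} (hn : 4 ≤ n) : Fac (.U n) q (Nat.log 2 n) 1 := by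
  intro Y c h
  obtain ⟨h1, h2⟩ := log_spec (show 1 ≤ n by omega)
  have hj := h.hj
  have h4 : 4 ≤ 2 ^ Nat.log 2 n := by
    calc 4 = 2 ^ 2 := by norm_num
      _ ≤ _ := Nat.pow_le_pow_right (by norm_num) hj
  have hev : Even (2 ^ Nat.log 2 n) := by
    obtain ⟨k, hk⟩ : ∃ k, Nat.log 2 n = k + 1 := ⟨Nat.log 2 n - 1, by omega⟩
    rw [hk, pow_succ]; exact Nat.even_mul.2 (.inr even_two)
  obtain ⟨W0, hW0, hc0⟩ := h.split
  have e0 : 2 ^ Nat.log 2 n - 2 + 2 = 2 ^ Nat.log 2 n := by omega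
  have hev2 : Even (2 ^ Nat.log 2 n - 2) := by
    rw [← e0, Nat.even_add] at hev
    exact hev.2 even_two
  obtain ⟨W, hW, hcW⟩ := prod_split (N := n - 1) (g := fun i => if Even i then q ^ (i + 2) - 1 else q ^ (i + 2) + 1)
    (i0 := 2 ^ Nat.log 2 n - 2)
    (Y := Y) (W0 := W0) (by omega) (by rw [if_pos hev2, e0]; exact hW0) hc0 (by
      intro i hi hne
      split_ifs with hi2
      · apply h.cop_sub
        intro hd
        have := multiple_eq hd (by omega) (by omega)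
        omega
      · apply h.cop_add
        left
        intro hd
        have h44 : 4 ∣ 2 * (i + 2) := (show 4 ∣ 2 ^ Nat.log 2 n by
          rw [show 4 = 2 ^ 2 by norm_num]; exact pow_dvd_pow 2 hj).trans hd
        apply hi2
        rw [Nat.even_iff]
        omega)
  refine ⟨q ^ (LT.U n).expo * W, ?_, ?_, ?_⟩
  · rw [show (LT.U n).cof q = ∏ i ∈ range (n - 1), (if Even i then q ^ (i + 2) - 1 else q ^ (i + 2) + 1) from rfl, hW, pow_one]; ring
  · exact Nat.Coprime.mul_right (h.cop_q _) hcW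
  · exact Nat.Coprime.coprime_dvd_right (Nat.gcd_dvd_right _ _) h.cop_add_one

/-- the product over even exponents -/
theorem even_prod {q j Y c m : ℕ} (h : YY q j Y c) (h1 : 2 ^ j ≤ 2 * m) (h2 : 2 * m < 2 * 2 ^ j) :
    ∃ W, ∏ i ∈ range m, (q ^ (2 * (i + 1)) - 1) = Y * W ∧ Nat.Coprime Y W := by
  have hj := h.hj
  obtain ⟨W0, hW0, hc0⟩ := h.split
  have e1 : 2 ^ j = 2 * 2 ^ (j - 1) := by rw [← pow_succ']; congr 1; omega
  have hpos : 0 < 2 ^ (j - 1) := by positivity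
  have e0 : 2 * (2 ^ (j - 1) - 1 + 1) = 2 ^ j := by omega
  refine prod_split (i0 := 2 ^ (j - 1) - 1) (W0 := W0) (by omega) (by rw [e0]; exact hW0) hc0 ?_
  intro i hi hne
  apply h.cop_sub
  intro hd
  have := multiple_eq hd (by omega) (by omega)
  omega

theorem fac_C {q m : ℕ} (hm : 2 ≤ m) : Fac (.C m) q (Nat.log 2 (2 * m)) 1 := by
  intro Y c h
  obtain ⟨h1, h2⟩ := log_spec (show 1 ≤ 2 * m by omega)
  obtain ⟨W, hW, hcW⟩ := even_prod h h1 (by omega)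
  refine ⟨q ^ (LT.C m).expo * W, ?_, ?_, ?_⟩
  · rw [show (LT.C m).cof q = ∏ i ∈ range m, (q ^ (2 * (i + 1)) - 1) from rfl, hW, pow_one]; ring
  · exact Nat.Coprime.mul_right (h.cop_q _) hcW
  · exact Nat.Coprime.coprime_dvd_right (Nat.gcd_dvd_left _ _) h.cop_two'

theorem fac_M {q m : ℕ} (hm : 4 ≤ m) : Fac (.M m) q (Nat.log 2 (2 * (m - 1))) 1 := by
  intro Y c h
  obtain ⟨h1, h2⟩ := log_spec (show 1 ≤ 2 * (m - 1) by omega)
  obtain ⟨W, hW, hcW⟩ := even_prod h h1 (by omega)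
  have hj := h.hj
  have hpos : 0 < 2 ^ Nat.log 2 (2 * (m - 1)) := by positivity
  have hcm : Nat.Coprime Y (q ^ m + 1) := by
    apply h.cop_add
    by_cases hd : 2 ^ Nat.log 2 (2 * (m - 1)) ∣ 2 * m
    · right
      obtain ⟨k, hk⟩ := hd
      have hk3 : k < 3 := by
        by_contra hk3
        have : 2 ^ Nat.log 2 (2 * (m - 1)) * 3 ≤ 2 ^ Nat.log 2 (2 * (m - 1)) * k := Nat.mul_le_mul_left _ (by omega)
        omega
      have hk0 : k ≠ 0 := by rintro rfl; omega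
      have hk1 : k ≠ 1 := by
        rintro rfl
        omega
      have hk2 : k = 2 := by omega
      rw [hk2] at hk
      exact ⟨1, by omega⟩
    · left; exact hd
  refine ⟨q ^ (LT.M m).expo * ((q ^ m + 1) * W), ?_, ?_, ?_⟩
  · rw [show (LT.M m).cof q = (q ^ m + 1) * ∏ i ∈ range (m - 1), (q ^ (2 * (i + 1)) - 1) from rfl, hW, pow_one]; ring
  · exact Nat.Coprime.mul_right (h.cop_q _) (Nat.Coprime.mul_right hcm hcW)
  · exact Nat.Coprime.coprime_dvd_right (Nat.gcd_dvd_left _ _) h.cop_four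

theorem fac_P_one {q m : ℕ} (hm : 4 ≤ m) (hne : m ≠ 2 ^ Nat.log 2 (2 * (m - 1))) :
    Fac (.P m) q (Nat.log 2 (2 * (m - 1))) 1 := by
  intro Y c h
  obtain ⟨h1, h2⟩ := log_spec (show 1 ≤ 2 * (m - 1) by omega)
  obtain ⟨W, hW, hcW⟩ := even_prod h h1 (by omega)
  have hcm : Nat.Coprime Y (q ^ m - 1) := by
    apply h.cop_sub
    intro hd
    exact hne (multiple_eq hd (by omega) (by omega))
  refine ⟨q ^ (LT.P m).expo * ((q ^ m - 1) * W), ?_, ?_, ?_⟩
  · rw [show (LT.P m).cof q = (q ^ m - 1) * ∏ i ∈ range (m - 1), (q ^ (2 * (i + 1)) - 1) from rfl, hW, pow_one]; ring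
  · exact Nat.Coprime.mul_right (h.cop_q _) (Nat.Coprime.mul_right hcm hcW)
  · exact Nat.Coprime.coprime_dvd_right (Nat.gcd_dvd_left _ _) h.cop_four

theorem fac_P_two {q m : ℕ} (hm : 4 ≤ m) (he : m = 2 ^ Nat.log 2 (2 * (m - 1))) :
    Fac (.P m) q (Nat.log 2 (2 * (m - 1))) 2 := by
  intro Y c h
  obtain ⟨h1, h2⟩ := log_spec (show 1 ≤ 2 * (m - 1) by omega)
  obtain ⟨W, hW, hcW⟩ := even_prod h h1 (by omega)
  obtain ⟨W0, hW0, hc0⟩ := h.split
  have hm' : q ^ m - 1 = Y * W0 := by rw [← hW0]; congr 2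
  refine ⟨q ^ (LT.P m).expo * (W0 * W), ?_, ?_, ?_⟩
  · rw [show (LT.P m).cof q = (q ^ m - 1) * ∏ i ∈ range (m - 1), (q ^ (2 * (i + 1)) - 1) from rfl, hW, hm']; ring
  · exact Nat.Coprime.mul_right (h.cop_q _) (Nat.Coprime.mul_right hc0 hcW)
  · exact Nat.Coprime.coprime_dvd_right (Nat.gcd_dvd_left _ _) h.cop_four

theorem YY.not_three {q j Y c : ℕ} (h : YY q j Y c) : ¬ 3 ∣ Y := by
  intro h3
  have h1 : Nat.Coprime 3 q := by
    have := (h.cop_q 1)
    rw [pow_one] at this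
    exact Nat.Coprime.coprime_dvd_left h3 this
  have h2 : 3 ∣ q ^ 2 - 1 := by
    have hq : q % 3 = 1 ∨ q % 3 = 2 := by
      have : ¬ 3 ∣ q := (Nat.Prime.coprime_iff_not_dvd Nat.prime_three).1 h1
      omega
    have h4 : q ^ 2 % 3 = 1 := by rcases hq with hq | hq <;> simp [Nat.pow_mod, hq]
    omega
  exact h.two_pow_dvd_two ((h.ord Nat.prime_three h3 2).1 h2)

theorem YY.cop_three {q j Y c : ℕ} (h : YY q j Y c) : Nat.Coprime Y 3 :=
  ((Nat.Prime.coprime_iff_not_dvd Nat.prime_three).2 h.not_three).symm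

theorem fac_F4 {q : ℕ} : Fac .F4 q 3 1 := by
  intro Y c h
  obtain ⟨W0, hW0, hc0⟩ := h.split
  norm_num at hW0
  refine ⟨q ^ 24 * ((q ^ 2 - 1) * (q ^ 6 - 1) * W0 * (q ^ 12 - 1)), ?_, ?_, Nat.coprime_one_right _⟩
  · simp only [LT.cof, LT.expo, hW0]; ring
  · exact Nat.Coprime.mul_right (h.cop_q _) (Nat.Coprime.mul_right (Nat.Coprime.mul_right (Nat.Coprime.mul_right
      (h.cop_sub (by norm_num)) (h.cop_sub (by norm_num))) hc0) (h.cop_sub (by norm_num)))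

theorem fac_E6 {q : ℕ} : Fac .E6 q 3 1 := by
  intro Y c h
  obtain ⟨W0, hW0, hc0⟩ := h.split
  norm_num at hW0
  refine ⟨q ^ 36 * ((q ^ 2 - 1) * (q ^ 5 - 1) * (q ^ 6 - 1) * W0 * (q ^ 9 - 1) * (q ^ 12 - 1)), ?_, ?_, ?_⟩
  · simp only [LT.cof, LT.expo, hW0]; ring
  · exact Nat.Coprime.mul_right (h.cop_q _) (Nat.Coprime.mul_right (Nat.Coprime.mul_right (Nat.Coprime.mul_right
      (Nat.Coprime.mul_right (Nat.Coprime.mul_right
      (h.cop_sub (by norm_num)) (h.cop_sub (by norm_num))) (h.cop_sub (by norm_num))) hc0) (h.cop_sub (by norm_num)))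
      (h.cop_sub (by norm_num)))
  · exact Nat.Coprime.coprime_dvd_right (Nat.gcd_dvd_right _ _) h.cop_sub_one

theorem fac_TE6 {q : ℕ} : Fac .TE6 q 3 1 := by
  intro Y c h
  obtain ⟨W0, hW0, hc0⟩ := h.split
  norm_num at hW0
  refine ⟨q ^ 36 * ((q ^ 2 - 1) * (q ^ 5 + 1) * (q ^ 6 - 1) * W0 * (q ^ 9 + 1) * (q ^ 12 - 1)), ?_, ?_, ?_⟩
  · simp only [LT.cof, LT.expo, hW0]; ring
  · exact Nat.Coprime.mul_right (h.cop_q _) (Nat.Coprime.mul_right (Nat.Coprime.mul_right (Nat.Coprime.mul_right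
      (Nat.Coprime.mul_right (Nat.Coprime.mul_right
      (h.cop_sub (by norm_num)) (h.cop_add (.inl (by norm_num)))) (h.cop_sub (by norm_num))) hc0)
      (h.cop_add (.inl (by norm_num))))
      (h.cop_sub (by norm_num)))
  · exact Nat.Coprime.coprime_dvd_right (Nat.gcd_dvd_right _ _) h.cop_add_one

theorem fac_E7 {q : ℕ} : Fac .E7 q 3 1 := by
  intro Y c h
  obtain ⟨W0, hW0, hc0⟩ := h.split
  norm_num at hW0
  refine ⟨q ^ 63 * ((q ^ 2 - 1) * (q ^ 6 - 1) * W0 * (q ^ 10 - 1) * (q ^ 12 - 1) * (q ^ 14 - 1) * (q ^ 18 - 1)), ?_, ?_, ?_⟩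
  · simp only [LT.cof, LT.expo, hW0]; ring
  · exact Nat.Coprime.mul_right (h.cop_q _) (Nat.Coprime.mul_right (Nat.Coprime.mul_right (Nat.Coprime.mul_right
      (Nat.Coprime.mul_right (Nat.Coprime.mul_right (Nat.Coprime.mul_right
      (h.cop_sub (by norm_num)) (h.cop_sub (by norm_num))) hc0) (h.cop_sub (by norm_num))) (h.cop_sub (by norm_num)))
      (h.cop_sub (by norm_num))) (h.cop_sub (by norm_num)))
  · exact Nat.Coprime.coprime_dvd_right (Nat.gcd_dvd_left _ _) h.cop_two'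

theorem fac_E8 {q : ℕ} : Fac .E8 q 3 2 := by
  intro Y c h
  obtain ⟨W0, hW0, hc0⟩ := h.split
  norm_num at hW0
  have hq1 : 1 ≤ q ^ 8 := Nat.one_le_pow _ _ (by have := h.two_le; omega)
  have e24 : q ^ 24 - 1 = (q ^ 8 - 1) * (q ^ 16 + q ^ 8 + 1) := by
    have e1 : 1 ≤ q ^ 24 := Nat.one_le_pow _ _ (by have := h.two_le; omega)
    zify [hq1, e1]; ring
  have hc3 : Nat.Coprime Y (q ^ 16 + q ^ 8 + 1) := by
    have e : q ^ 16 + q ^ 8 + 1 = 3 + Y * (W0 * (q ^ 8 + 2)) := by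
      have h8 : q ^ 8 = Y * W0 + 1 := by omega
      have h16 : q ^ 16 = (q ^ 8) ^ 2 := by ring
      rw [h16, h8]; ring
    rw [e, Nat.coprime_add_mul_left_right]
    exact h.cop_three
  refine ⟨q ^ 120 * ((q ^ 2 - 1) * W0 * (q ^ 12 - 1) * (q ^ 14 - 1) * (q ^ 18 - 1) * (q ^ 20 - 1) *
    (W0 * (q ^ 16 + q ^ 8 + 1)) * (q ^ 30 - 1)), ?_, ?_, Nat.coprime_one_right _⟩
  · simp only [LT.cof, LT.expo, e24, hW0]; ring
  · exact Nat.Coprime.mul_right (h.cop_q _) (Nat.Coprime.mul_right (Nat.Coprime.mul_right (Nat.Coprime.mul_right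
      (Nat.Coprime.mul_right (Nat.Coprime.mul_right (Nat.Coprime.mul_right (Nat.Coprime.mul_right
      (h.cop_sub (by norm_num)) hc0) (h.cop_sub (by norm_num))) (h.cop_sub (by norm_num))) (h.cop_sub (by norm_num)))
      (h.cop_sub (by norm_num))) (Nat.Coprime.mul_right hc0 hc3)) (h.cop_sub (by norm_num)))

theorem fac_TF4 {q : ℕ} : Fac .TF4 q 2 2 := by
  intro Y c h
  obtain ⟨W0, hW0, hc0⟩ := h.split
  norm_num at hW0
  have hq1 : 1 ≤ q ^ 2 := Nat.one_le_pow _ _ (by have := h.two_le; omega)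
  have heq : q ^ 2 + 1 = c * Y := by have := h.eq; norm_num at this; exact this
  have hq4 : q ^ 2 ≤ q ^ 4 := Nat.pow_le_pow_right (by have := h.two_le; omega) (by norm_num)
  have e6 : q ^ 6 + 1 = (q ^ 2 + 1) * (q ^ 4 - q ^ 2 + 1) := by
    zify [hq4]; ring
  have hc3 : Nat.Coprime Y (q ^ 4 - q ^ 2 + 1) := by
    have e : (q ^ 4 - q ^ 2 + 1) + Y * (3 * c) = 3 + Y * (c * (c * Y)) := by
      have e2 : Y * (3 * c) = 3 * (q ^ 2 + 1) := by rw [heq]; ring
      have e3 : Y * (c * (c * Y)) = (q ^ 2 + 1) ^ 2 := by rw [heq]; ring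
      rw [e2, e3]
      zify [hq4]; ring
    have h1 : Nat.Coprime Y (3 + Y * (c * (c * Y))) := by
      rw [Nat.coprime_add_mul_left_right]; exact h.cop_three
    rw [← e, Nat.coprime_add_mul_left_right] at h1
    exact h1
  refine ⟨q ^ 12 * ((q - 1) * (q ^ 3 + 1) * W0 * (c * (q ^ 4 - q ^ 2 + 1))), ?_, ?_, Nat.coprime_one_right _⟩
  · simp only [LT.cof, LT.expo, e6, hW0, heq]; ring
  · exact Nat.Coprime.mul_right (h.cop_q _) (Nat.Coprime.mul_right (Nat.Coprime.mul_right (Nat.Coprime.mul_right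
      h.cop_sub_one (h.cop_add (.inl (by norm_num)))) hc0) (Nat.Coprime.mul_right h.cop_c hc3))

theorem fac_Sz {q : ℕ} : Fac .Sz q 2 1 := by
  intro Y c h
  have heq : q ^ 2 + 1 = c * Y := by have := h.eq; norm_num at this; exact this
  refine ⟨q ^ 2 * ((q - 1) * c), ?_, ?_, Nat.coprime_one_right _⟩
  · simp only [LT.cof, LT.expo, heq]; ring
  · exact Nat.Coprime.mul_right (h.cop_q _) (Nat.Coprime.mul_right h.cop_sub_one h.cop_c)

/-- a power of two plus one is not an odd power -/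
theorem two_pow_add_one {a z l : ℕ} (ha : a ≠ 0) (hl : l.Prime) (hl2 : l ≠ 2) (h : 2 ^ a + 1 = z ^ l) : False := by
  have hlodd : Odd l := hl.odd_of_ne_two hl2
  have hz1 : 1 < z := by
    by_contra hz
    have : z = 0 ∨ z = 1 := by omega
    rcases this with rfl | rfl
    · rw [zero_pow hl.ne_zero] at h; simp at h
    · rw [one_pow] at h
      have : 0 < 2 ^ a := by positivity
      omega
  have hzodd : Odd z := by
    by_contra hz
    rw [Nat.not_odd_iff_even] at hz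
    have : Even (z ^ l) := hz.pow_of_ne_zero hl.ne_zero
    rw [← h] at this
    have h2 : Even (2 ^ a) := (even_two).pow_of_ne_zero ha
    rw [Nat.even_add_one] at this
    exact this h2
  -- `∑ z^i` is odd and divides `2^a`
  have h1 : (z - 1) * ∑ i ∈ range l, z ^ i = 2 ^ a := by
    have h2 := mul_geom_sum (z : ℤ) l
    have h3 : (z : ℤ) ^ l = 2 ^ a + 1 := by exact_mod_cast h.symm
    rw [h3, add_sub_cancel_right] at h2
    zify [hz1.le]
    exact h2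
  have hsodd : Odd (∑ i ∈ range l, z ^ i) := by
    rw [Finset.odd_sum_iff_odd_card_odd]
    have : (range l).filter (fun i => Odd (z ^ i)) = range l := Finset.filter_true_of_mem fun i _ => hzodd.pow
    rw [this, card_range]; exact hlodd
  have h3 : (∑ i ∈ range l, z ^ i) ∣ 2 ^ a := h1 ▸ dvd_mul_left _ _
  obtain ⟨b, -, hb⟩ := (Nat.dvd_prime_pow Nat.prime_two).1 h3
  have hb0 : b = 0 := by
    by_contra hb0
    rw [hb] at hsodd
    exact absurd hsodd (by rw [Nat.not_odd_iff_even]; exact (even_two).pow_of_ne_zero hb0)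
  rw [hb0, pow_zero] at hb
  have h4 : 2 ≤ ∑ i ∈ range l, z ^ i := by
    obtain ⟨k, rfl⟩ : ∃ k, l = k + 2 := ⟨l - 2, by have := hl.two_le; omega⟩
    rw [Finset.sum_range_succ', Finset.sum_range_succ']
    simp
    omega
  omega

end Cfsg.Agent.H437
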