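import Cfsg.Agent.H437.Fac
set_option autoImplicit false
namespace Cfsg.Agent.H437
open Finset

theorem cop_pow_sub {q : ℕ} (hq : 1 ≤ q) {n : ℕ} (hn : n ≠ 0) : Nat.Coprime q (q ^ n - 1) := by
  have h1 : 1 ≤ q ^ n := Nat.one_le_pow _ _ hq
  obtain ⟨k, rfl⟩ := Nat.exists_eq_succ_of_ne_zero hn
  have h2 : q ^ (k + 1) - 1 + 1 = q * q ^ k := by rw [Nat.sub_add_cancel (by simpa using h1)]; ring
  have h3 : Nat.Coprime (q ^ (k + 1) - 1) (q ^ (k + 1) - 1 + 1) := by simp
  rw [h2] at h3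
  exact (h3.coprime_mul_right_right).symm

theorem cop_pow_add {q : ℕ} {n : ℕ} (hn : n ≠ 0) : Nat.Coprime q (q ^ n + 1) := by
  obtain ⟨k, rfl⟩ := Nat.exists_eq_succ_of_ne_zero hn
  have h3 : Nat.Coprime (q ^ (k + 1)) (q ^ (k + 1) + 1) := by simp
  rw [Nat.succ_eq_add_one, pow_succ] at *
  exact h3.coprime_mul_left

theorem LT.cop_cof {T : LT} {p f : ℕ} (hp : p.Prime) (hf : f ≠ 0) (hv : T.Valid p f) : Nat.Coprime (p ^ f) (T.cof (p ^ f)) := by
  have hq : 1 ≤ p ^ f := Nat.one_le_pow _ _ hp.pos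
  generalize p ^ f = q at *
  have s : ∀ n, n ≠ 0 → Nat.Coprime q (q ^ n - 1) := fun n hn => cop_pow_sub hq hn
  have a : ∀ n, n ≠ 0 → Nat.Coprime q (q ^ n + 1) := fun n hn => cop_pow_add hn
  have s1 : Nat.Coprime q (q - 1) := by simpa using s 1 one_ne_zero
  cases T with
  | A n => exact Nat.Coprime.prod_right fun i _ => s _ (by omega)
  | U n =>
    refine Nat.Coprime.prod_right fun i _ => ?_
    split_ifs
    · exact s _ (by omega)
    · exact a _ (by omega)
  | C m => exact Nat.Coprime.prod_right fun i _ => s _ (by omega)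
  | P m =>
    have : 4 ≤ m := hv
    exact Nat.Coprime.mul_right (s _ (by omega)) (Nat.Coprime.prod_right fun i _ => s _ (by omega))
  | M m =>
    have : 4 ≤ m := hv
    exact Nat.Coprime.mul_right (a _ (by omega)) (Nat.Coprime.prod_right fun i _ => s _ (by omega))
  | G2 => exact Nat.Coprime.mul_right (s _ (by norm_num)) (s _ (by norm_num))
  | F4 => exact Nat.Coprime.mul_right (Nat.Coprime.mul_right (Nat.Coprime.mul_right (s _ (by norm_num)) (s _ (by norm_num)))
      (s _ (by norm_num))) (s _ (by norm_num))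
  | E6 => exact Nat.Coprime.mul_right (Nat.Coprime.mul_right (Nat.Coprime.mul_right (Nat.Coprime.mul_right
      (Nat.Coprime.mul_right (s _ (by norm_num)) (s _ (by norm_num)))
      (s _ (by norm_num))) (s _ (by norm_num))) (s _ (by norm_num))) (s _ (by norm_num))
  | E7 => exact Nat.Coprime.mul_right (Nat.Coprime.mul_right (Nat.Coprime.mul_right (Nat.Coprime.mul_right
      (Nat.Coprime.mul_right (Nat.Coprime.mul_right (s _ (by norm_num)) (s _ (by norm_num)))
      (s _ (by norm_num))) (s _ (by norm_num))) (s _ (by norm_num))) (s _ (by norm_num))) (s _ (by norm_num))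
  | E8 => exact Nat.Coprime.mul_right (Nat.Coprime.mul_right (Nat.Coprime.mul_right (Nat.Coprime.mul_right
      (Nat.Coprime.mul_right (Nat.Coprime.mul_right (Nat.Coprime.mul_right (s _ (by norm_num)) (s _ (by norm_num)))
      (s _ (by norm_num))) (s _ (by norm_num))) (s _ (by norm_num))) (s _ (by norm_num))) (s _ (by norm_num))) (s _ (by norm_num))
  | TE6 => exact Nat.Coprime.mul_right (Nat.Coprime.mul_right (Nat.Coprime.mul_right (Nat.Coprime.mul_right
      (Nat.Coprime.mul_right (s _ (by norm_num)) (a _ (by norm_num)))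
      (s _ (by norm_num))) (s _ (by norm_num))) (a _ (by norm_num))) (s _ (by norm_num))
  | TD4 =>
    refine Nat.Coprime.mul_right (Nat.Coprime.mul_right (s _ (by norm_num)) (s _ (by norm_num))) ?_
    have : q ^ 8 + q ^ 4 + 1 = 1 + q * (q ^ 7 + q ^ 3) := by ring
    rw [this, Nat.coprime_add_mul_left_right]
    exact Nat.coprime_one_right q
  | Sz => exact Nat.Coprime.mul_right s1 (a _ (by norm_num))
  | Ree => exact Nat.Coprime.mul_right s1 (a _ (by norm_num))
  | TF4 => exact Nat.Coprime.mul_right (Nat.Coprime.mul_right (Nat.Coprime.mul_right s1 (a _ (by norm_num)))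
      (s _ (by norm_num))) (a _ (by norm_num))

theorem LT.cop_dd {T : LT} {p f : ℕ} (hp : p.Prime) (hf : f ≠ 0) (hv : T.Valid p f) : Nat.Coprime (p ^ f) (T.dd (p ^ f)) := by
  have hq : 1 ≤ p ^ f := Nat.one_le_pow _ _ hp.pos
  generalize p ^ f = q at *
  have s : ∀ n, n ≠ 0 → Nat.Coprime q (q ^ n - 1) := fun n hn => cop_pow_sub hq hn
  have a : ∀ n, n ≠ 0 → Nat.Coprime q (q ^ n + 1) := fun n hn => cop_pow_add hn
  have s1 : Nat.Coprime q (q - 1) := by simpa using s 1 one_ne_zero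
  have a1 : Nat.Coprime q (q + 1) := by simpa using a 1 one_ne_zero
  cases T with
  | A n => exact Nat.Coprime.coprime_dvd_right (Nat.gcd_dvd_right _ _) s1
  | U n => exact Nat.Coprime.coprime_dvd_right (Nat.gcd_dvd_right _ _) a1
  | C m => exact Nat.Coprime.coprime_dvd_right (Nat.gcd_dvd_right _ _) s1
  | P m =>
    have : 4 ≤ m := hv
    exact Nat.Coprime.coprime_dvd_right (Nat.gcd_dvd_right _ _) (s _ (by omega))
  | M m =>
    have : 4 ≤ m := hv
    exact Nat.Coprime.coprime_dvd_right (Nat.gcd_dvd_right _ _) (a _ (by omega))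
  | E6 => exact Nat.Coprime.coprime_dvd_right (Nat.gcd_dvd_right _ _) s1
  | E7 => exact Nat.Coprime.coprime_dvd_right (Nat.gcd_dvd_right _ _) s1
  | TE6 => exact Nat.Coprime.coprime_dvd_right (Nat.gcd_dvd_right _ _) a1
  | _ => exact Nat.coprime_one_right q

theorem IsOrd.cop_cof {T : LT} {p f N : ℕ} (h : IsOrd T p f N) : Nat.Coprime (p ^ f) (T.cof (p ^ f)) :=
  LT.cop_cof h.prime h.f_ne h.valid

theorem IsOrd.cop_dd {T : LT} {p f N : ℕ} (h : IsOrd T p f N) : Nat.Coprime (p ^ f) (T.dd (p ^ f)) :=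
  LT.cop_dd h.prime h.f_ne h.valid

/-- if the order is a `k`-th power and `k` is prime to the exponent of `q`, then `q` is a `k`-th power -/
theorem IsOrd.exists_root {T : LT} {p f N m k : ℕ} (h : IsOrd T p f N) (hk : k.Prime) (hN : N = m ^ k)
    (hexp : ¬ k ∣ T.expo) : ∃ g, g ≠ 0 ∧ f = g * k ∧ p ^ f = (p ^ g) ^ k := by
  obtain ⟨z, hz⟩ := power_part (Y := (p ^ f) ^ T.expo) (pow_pos (pow_pos h.prime.pos _) _) hN h.eq
    (h.cop_cof.pow_left _) (h.cop_dd.pow_left _)
  have h1 : k ∣ f * T.expo := by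
    rw [← pow_mul] at hz
    have h2 : z ∣ p ^ (f * T.expo) := by rw [hz]; exact dvd_pow_self z hk.ne_zero
    obtain ⟨b, -, hb⟩ := (Nat.dvd_prime_pow h.prime).1 h2
    rw [hb, ← pow_mul] at hz
    have := Nat.pow_right_injective h.prime.two_le hz
    exact ⟨b, by rw [this]; ring⟩
  have h2 : k ∣ f := (((Nat.Prime.coprime_iff_not_dvd hk).2 hexp)).dvd_of_dvd_mul_right h1
  obtain ⟨g, rfl⟩ := h2
  refine ⟨g, ?_, by ring, by rw [← pow_mul]; congr 1; ring⟩
  rintro rfl
  exact h.f_ne (by simp)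

/-! ### conclusions from `Y = z ^ k` -/

theorem fin_odd {p f j Y c z l : ℕ} (hp : p.Prime) (hf : f ≠ 0) (h : YY (p ^ f) j Y c) (hl : l.Prime) (hl2 : l ≠ 2)
    (hz : Y = z ^ l) : False := by
  have hj := h.hj
  obtain ⟨i, rfl⟩ : ∃ i, j = i + 2 := ⟨j - 2, by omega⟩
  have heq := h.eq
  have e : i + 2 - 1 = i + 1 := by omega
  rw [e] at heq
  by_cases hp2 : p = 2
  · subst hp2
    have hc : c = 1 := h.even (by
      obtain ⟨k, rfl⟩ := Nat.exists_eq_succ_of_ne_zero hf
      rw [pow_succ]; omega)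
    rw [hc, one_mul, hz, ← pow_mul] at heq
    exact two_pow_add_one (mul_ne_zero hf (by positivity)) hl hl2 heq
  · have hc : c = 2 := h.odd (by
      have : Odd (p ^ f) := (hp.odd_of_ne_two hp2).pow
      exact Nat.odd_iff.1 this)
    rw [hc, hz] at heq
    have e2 : (p ^ f) ^ 2 ^ (i + 1) = (p ^ (f * 2 ^ i)) ^ 2 := by
      rw [← pow_mul, ← pow_mul]; congr 1; rw [pow_succ]; ring
    rw [e2] at heq
    exact stormer hp hp2 (mul_ne_zero hf (by positivity)) hl hl2 heq

theorem not_consecutive_squares {x z : ℕ} (hx : 1 ≤ x) (h : x ^ 2 + 1 = z ^ 2) : False := by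
  have h1 : x < z := by
    by_contra hcon
    have := Nat.pow_le_pow_left (Nat.le_of_not_lt hcon) 2
    omega
  nlinarith

theorem fin_two {q j Y c z : ℕ} (h : YY q j Y c) (hc : c = 1 ∨ 3 ≤ j ∨ ∃ a, q = a ^ 2) (hz : Y = z ^ 2) : False := by
  have hj := h.hj
  have hq := h.two_le
  obtain ⟨i, rfl⟩ : ∃ i, j = i + 2 := ⟨j - 2, by omega⟩
  have heq := h.eq
  have e : i + 2 - 1 = i + 1 := by omega
  rw [e] at heq
  have e2 : q ^ 2 ^ (i + 1) = (q ^ 2 ^ i) ^ 2 := by rw [← pow_mul]; congr 1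
  rcases h.c_cases with rfl | rfl
  · rw [one_mul, hz, e2] at heq
    exact not_consecutive_squares (Nat.one_le_pow _ _ (by omega)) heq
  · have hx : ∃ t, 2 ≤ t ∧ q ^ 2 ^ i = t ^ 2 := by
      rcases hc with hc | hc | ⟨a, rfl⟩
      · omega
      · obtain ⟨i', rfl⟩ : ∃ i', i = i' + 1 := ⟨i - 1, by omega⟩
        refine ⟨q ^ 2 ^ i', ?_, by rw [← pow_mul]; congr 1⟩
        calc 2 ≤ q := hq
          _ = q ^ 1 := (pow_one q).symm
          _ ≤ _ := Nat.pow_le_pow_right (by omega) Nat.one_le_two_pow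
      · refine ⟨a ^ 2 ^ i, ?_, by rw [← pow_mul, ← pow_mul]; congr 1; ring⟩
        have ha : 2 ≤ a := by
          by_contra hcon
          have : a ^ 2 ≤ 1 ^ 2 := Nat.pow_le_pow_left (by omega) 2
          omega
        calc 2 ≤ a := ha
          _ = a ^ 1 := (pow_one a).symm
          _ ≤ _ := Nat.pow_le_pow_right (by omega) Nat.one_le_two_pow
    obtain ⟨t, ht, htq⟩ := hx
    rw [hz, e2, htq, ← pow_mul] at heq
    have := quartic_two heq
    omega

theorem IsOrd.fac_odd {T : LT} {p f N m l j e : ℕ} (h : IsOrd T p f N) (hl : l.Prime) (hl2 : l ≠ 2) (hN : N = m ^ l)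
    (hj : 2 ≤ j) (he : e = 1 ∨ e = 2) (hF : Fac T (p ^ f) j e) : False := by
  obtain ⟨Y, c, hY⟩ := exists_YY h.two_le hj
  obtain ⟨W, h1, h2, h3⟩ := hF Y c hY
  have h4 := h.eq
  rw [h1] at h4
  obtain ⟨z, hz⟩ := power_part (pow_pos hY.pos e) hN h4 (h2.pow_left e) (h3.pow_left e)
  have hc : Nat.Coprime e l := by
    rcases he with rfl | rfl
    · exact Nat.coprime_one_left l
    · exact (Nat.coprime_primes Nat.prime_two hl).2 (Ne.symm hl2)
  obtain ⟨w, hw⟩ := root_of_coprime hc hz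
  exact fin_odd h.prime h.f_ne hY hl hl2 hw

theorem IsOrd.fac_two {T : LT} {p f N m j : ℕ} (h : IsOrd T p f N) (hN : N = m ^ 2)
    (hj : 2 ≤ j) (hF : Fac T (p ^ f) j 1) (hc : p = 2 ∨ 3 ≤ j ∨ ¬ 2 ∣ T.expo) : False := by
  obtain ⟨Y, c, hY⟩ := exists_YY h.two_le hj
  obtain ⟨W, h1, h2, h3⟩ := hF Y c hY
  have h4 := h.eq
  rw [h1, pow_one] at h4
  obtain ⟨z, hz⟩ := power_part hY.pos hN h4 h2 h3
  refine fin_two hY ?_ hz
  rcases hc with rfl | hc | hc
  · left
    apply hY.even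
    obtain ⟨k, hk⟩ := Nat.exists_eq_succ_of_ne_zero h.f_ne
    rw [hk, pow_succ]; omega
  · exact .inr (.inl hc)
  · obtain ⟨g, -, -, hg⟩ := h.exists_root Nat.prime_two hN hc
    exact .inr (.inr ⟨_, hg⟩)

end Cfsg.Agent.H437
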