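import Cfsg.Agent.H437.Small
set_option autoImplicit false
namespace Cfsg.Agent.H437
open Finset

theorem two_cubes {z w f : ℕ} (hf : f ≠ 0) (hw : w % 3 ≠ 0) (h : z ^ 3 = w ^ 3 + 2 * 3 ^ f) : False := by
  have h1 : w < z := lt_of_pow_lt_pow_left₀ 3 (Nat.zero_le _) (by have : 0 < 3 ^ f := by positivity
                                                                  omega)
  obtain ⟨t, rfl⟩ := Nat.exists_eq_add_of_lt h1
  obtain ⟨g, rfl⟩ := Nat.exists_eq_succ_of_ne_zero hf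
  have h2 : (t + 1) ^ 3 + 3 * (w ^ 2 * (t + 1) + w * (t + 1) ^ 2) = 3 * (2 * 3 ^ g) := by
    rw [pow_succ 3 g] at h
    have : (w + t + 1) ^ 3 = w ^ 3 + ((t + 1) ^ 3 + 3 * (w ^ 2 * (t + 1) + w * (t + 1) ^ 2)) := by ring
    omega
  have h3 : 3 ∣ (t + 1) ^ 3 := by omega
  obtain ⟨s, hs⟩ := Nat.prime_three.dvd_of_dvd_pow h3
  have h4 : w ^ 2 + 3 * (w * s + s ^ 2) ∣ 2 * 3 ^ (g + 1) := by
    refine ⟨9 * s, ?_⟩
    have : (w + t + 1) ^ 3 = w ^ 3 + 2 * 3 ^ (g + 1) := h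
    rw [show w + t + 1 = w + 3 * s by omega] at this
    have e : (w + 3 * s) ^ 3 = w ^ 3 + (w ^ 2 + 3 * (w * s + s ^ 2)) * (9 * s) := by ring
    omega
  have h5 : Nat.Coprime (w ^ 2 + 3 * (w * s + s ^ 2)) (3 ^ (g + 1)) := by
    apply Nat.Coprime.pow_right
    rw [Nat.coprime_comm, Nat.Prime.coprime_iff_not_dvd Nat.prime_three]
    intro h6
    have h7 : 3 ∣ w ^ 2 := by omega
    have := Nat.prime_three.dvd_of_dvd_pow h7
    omega
  have h6 := Nat.le_of_dvd (by norm_num) (h5.dvd_of_dvd_mul_right h4)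
  have hs1 : 1 ≤ s := by omega
  nlinarith

theorem ree_cube {f w : ℕ} (h : (3 ^ f) ^ 2 = w ^ 3 + 1) : f ≤ 1 := by
  rcases Nat.eq_zero_or_pos w with hw | hw
  · subst hw
    have : 3 ^ f = 1 := by simpa using h
    rcases Nat.eq_zero_or_pos f with h0 | h0
    · omega
    · exact absurd this (Nat.one_lt_pow h0.ne' (by norm_num)).ne'
  obtain ⟨v, rfl⟩ : ∃ v, w = v + 1 := ⟨w - 1, by omega⟩
  have h1 : v ^ 2 + v + 1 ∣ 3 ^ (f * 2) := by
    rw [pow_mul, h]; exact ⟨v + 2, by ring⟩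
  obtain ⟨j, -, hj⟩ := (Nat.dvd_prime_pow Nat.prime_three).1 h1
  have hj1 : j ≤ 1 := by
    by_contra hcon
    obtain ⟨i, rfl⟩ : ∃ i, j = i + 2 := ⟨j - 2, by omega⟩
    have e : 3 ^ (i + 2) = 9 * 3 ^ i := by ring
    rw [e] at hj
    have h3 : v % 3 = 0 ∨ v % 3 = 1 ∨ v % 3 = 2 := by omega
    have hk : v = 3 * (v / 3) + v % 3 := (Nat.div_add_mod v 3).symm
    generalize v / 3 = k at hk
    rcases h3 with h3 | h3 | h3
    · rw [h3, add_zero] at hk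
      have e : v ^ 2 + v + 1 = 3 * (3 * k ^ 2 + k) + 1 := by rw [hk]; ring
      omega
    · rw [h3] at hk
      have e : v ^ 2 + v + 1 = 9 * (k ^ 2 + k) + 3 := by rw [hk]; ring
      omega
    · rw [h3] at hk
      have e : v ^ 2 + v + 1 = 3 * (3 * k ^ 2 + 5 * k + 2) + 1 := by rw [hk]; ring
      omega
  have hv : v ≤ 1 := by
    have : 3 ^ j ≤ 3 ^ 1 := Nat.pow_le_pow_right (by norm_num) hj1
    nlinarith
  have h2 : (3 ^ f) ^ 2 ≤ 3 ^ 2 := by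
    rw [h]
    have : (v + 1) ^ 3 ≤ 2 ^ 3 := Nat.pow_le_pow_left (by omega) 3
    omega
  have h3 : 3 ^ f ≤ 3 ^ 1 := by simpa using (Nat.pow_le_pow_iff_left (by norm_num : 2 ≠ 0)).1 h2
  exact (Nat.pow_le_pow_iff_right (by norm_num)).1 h3

theorem v2par {m d K u : ℕ} (hd : d % 2 = 1) (hu : u % 2 = 1) (hK : K ≠ 0) (h : d * m ^ 2 = K ^ 2 * (2 * u)) : False := by
  have F2 : Fact (Nat.Prime 2) := ⟨Nat.prime_two⟩
  have hm : m ≠ 0 := by
    rintro rfl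
    have : K ^ 2 * (2 * u) ≠ 0 := by
      have : u ≠ 0 := by omega
      positivity
    exact this (by rw [← h]; simp)
  have h1 := congrArg (padicValNat 2) h
  rw [padicValNat.mul (by omega) (pow_ne_zero _ hm), padicValNat.pow,
    padicValNat.mul (pow_ne_zero _ hK) (by omega), padicValNat.pow, padicValNat.mul (by norm_num) (by omega),
    padicValNat.self (by norm_num), padicValNat.eq_zero_of_not_dvd (by omega), padicValNat.eq_zero_of_not_dvd (by omega : ¬ 2 ∣ u)] at h1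
  omega

/-- the common argument for `G₂` and `³D₄` -/
theorem phi36 {p f l : ℕ} (hp : p.Prime) (hf : f ≠ 0) (hl : l.Prime) (hl2 : l ≠ 2) (hq3 : 3 ≤ p ^ f)
    (hroot : l ≠ 3 → ∃ a, p ^ f = a ^ l)
    (hplus : ∀ Z c, (p ^ f) ^ 2 + p ^ f + 1 = c * Z → Nat.Coprime Z c → HH (p ^ f) 3 Z → ∃ z, Z = z ^ l)
    (hminus : ∀ Z c, (p ^ f) ^ 2 - p ^ f + 1 = c * Z → Nat.Coprime Z c → HH (p ^ f) 6 Z → ∃ z, Z = z ^ l) : False := by
  obtain ⟨Z, c, hZ, hc3, hc1, hZ3, H⟩ := plus_HH (q := p ^ f) (by omega)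
  obtain ⟨Z', c', hZ', hc3', hc1', hZ3', H'⟩ := minus_HH (q := p ^ f) (by omega)
  have hccop : Nat.Coprime Z c := by
    by_cases hm : p ^ f % 3 = 1
    · rw [hc3 hm]; exact H.cop_small (by norm_num) le_rfl
    · rw [hc1 hm]; exact Nat.coprime_one_right _
  have hccop' : Nat.Coprime Z' c' := by
    by_cases hm : p ^ f % 3 = 2
    · rw [hc3' hm]; exact H'.cop_small (by norm_num) (by norm_num)
    · rw [hc1' hm]; exact Nat.coprime_one_right _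
  obtain ⟨z, hz⟩ := hplus Z c hZ hccop H
  obtain ⟨w, hw⟩ := hminus Z' c' hZ' hccop' H'
  have h3 : p ^ f % 3 = 0 ∨ p ^ f % 3 = 1 ∨ p ^ f % 3 = 2 := by omega
  rcases h3 with h3 | h3 | h3
  · by_cases hl3 : l = 3
    · subst hl3
      have hp3 : p = 3 := by
        have h4 : 3 ∣ p ^ f := Nat.dvd_of_mod_eq_zero h3
        exact ((Nat.prime_dvd_prime_iff_eq Nat.prime_three hp).1 (Nat.prime_three.dvd_of_dvd_pow h4)).symm
      subst hp3
      rw [hc1 (by rw [h3]; norm_num), one_mul, hz] at hZ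
      rw [hc1' (by rw [h3]; norm_num), one_mul, hw] at hZ'
      refine two_cubes (z := z) (w := w) hf ?_ ?_
      · intro h5
        have h6 : 3 ∣ w ^ 3 := dvd_pow (Nat.dvd_of_mod_eq_zero h5) (by norm_num)
        rw [← hw] at h6
        exact hZ3' (Nat.mod_eq_zero_of_dvd h6)
      · have h6 : 3 ^ f ≤ (3 ^ f) ^ 2 := by nlinarith
        clear * - h6 hZ hZ'
        omega
    · obtain ⟨a, ha⟩ := hroot hl3
      rw [hc1 (by rw [h3]; norm_num), one_mul, hz] at hZ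
      exact size_plus hl.two_le (by omega) ha hZ
  · rw [hc3 h3, hz] at hZ
    have : ((p ^ f : ℕ) : ℤ) ^ 2 + ((p ^ f : ℕ) : ℤ) + 1 = 3 * (z : ℤ) ^ l := by exact_mod_cast hZ
    rcases nagell hl hl2 this with h5 | h5 <;> omega
  · rw [hc3' h3, hw] at hZ'
    have : (-((p ^ f : ℕ) : ℤ)) ^ 2 + (-((p ^ f : ℕ) : ℤ)) + 1 = 3 * (w : ℤ) ^ l := by
      have h6 : p ^ f ≤ (p ^ f) ^ 2 := by nlinarith
      have h7 : (((p ^ f) ^ 2 - p ^ f + 1 : ℕ) : ℤ) = ((3 * w ^ l : ℕ) : ℤ) := by rw [hZ']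
      push_cast [Nat.cast_sub h6] at h7
      push_cast
      linear_combination h7
    rcases nagell hl hl2 this with h5 | h5 <;> omega

theorem root_six {T : LT} {p f N m l : ℕ} (h : IsOrd T p f N) (hl : l.Prime) (hN : N = m ^ l) (hl2 : l ≠ 2)
    (hT : ∃ a b, T.expo = 2 ^ a * 3 ^ b) : l ≠ 3 → ∃ a, p ^ f = a ^ l := by
  intro hl3
  obtain ⟨g, -, -, hg⟩ := h.exists_root hl hN (by
    obtain ⟨a, b, hab⟩ := hT
    rw [hab, Nat.Prime.dvd_mul hl]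
    rintro (h1 | h1)
    · exact hl2 ((Nat.prime_dvd_prime_iff_eq hl Nat.prime_two).1 (hl.dvd_of_dvd_pow h1))
    · exact hl3 ((Nat.prime_dvd_prime_iff_eq hl Nat.prime_three).1 (hl.dvd_of_dvd_pow h1)))
  exact ⟨_, hg⟩

/-- `q³ - 1`, `q³ + 1`, `q⁶ - 1` -/
theorem cube_sub (q : ℕ) : q ^ 3 - 1 = (q - 1) * (q ^ 2 + q + 1) := by
  rcases Nat.eq_zero_or_pos q with h | h
  · subst h; rfl
  obtain ⟨a, rfl⟩ : ∃ a, q = a + 1 := ⟨q - 1, by omega⟩
  have : (a + 1) ^ 3 = a * ((a + 1) ^ 2 + (a + 1) + 1) + 1 := by ring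
  rw [this]; simp

theorem cube_add (q : ℕ) : q ^ 3 + 1 = (q + 1) * (q ^ 2 - q + 1) := by
  rcases Nat.eq_zero_or_pos q with h | h
  · subst h; rfl
  obtain ⟨a, rfl⟩ : ∃ a, q = a + 1 := ⟨q - 1, by omega⟩
  have : (a + 1) ^ 2 - (a + 1) = a ^ 2 + a := by
    have : (a + 1) ^ 2 = a ^ 2 + a + (a + 1) := by ring
    omega
  rw [this]; ring

theorem sq_sub (q : ℕ) : q ^ 2 - 1 = (q - 1) * (q + 1) := by
  rcases Nat.eq_zero_or_pos q with h | h
  · subst h; rfl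
  obtain ⟨a, rfl⟩ : ∃ a, q = a + 1 := ⟨q - 1, by omega⟩
  have : (a + 1) ^ 2 = a * (a + 1 + 1) + 1 := by ring
  rw [this]; simp

theorem six_sub (q : ℕ) : q ^ 6 - 1 = (q ^ 2 - 1) * ((q ^ 2 + q + 1) * (q ^ 2 - q + 1)) := by
  have h1 : q ^ 6 - 1 = (q ^ 3 - 1) * (q ^ 3 + 1) := by
    rw [← sq_sub]; congr 1; ring
  rw [h1, cube_sub, cube_add, sq_sub]; ring

theorem six_sub' (q : ℕ) : q ^ 6 - 1 = (q ^ 2 - 1) * ((q ^ 2) ^ 2 + q ^ 2 + 1) := by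
  have := cube_sub (q ^ 2)
  rw [← this]; congr 1; ring

theorem four_sub (q : ℕ) : q ^ 4 - 1 = (q ^ 2 - 1) * (q ^ 2 + 1) := by
  rw [← sq_sub]; congr 1; ring

theorem plus_minus (q : ℕ) : (q ^ 2) ^ 2 + q ^ 2 + 1 = (q ^ 2 + q + 1) * (q ^ 2 - q + 1) := by
  rcases Nat.eq_zero_or_pos q with h | h
  · subst h; rfl
  obtain ⟨a, rfl⟩ : ∃ a, q = a + 1 := ⟨q - 1, by omega⟩
  have : (a + 1) ^ 2 - (a + 1) = a ^ 2 + a := by
    have : (a + 1) ^ 2 = a ^ 2 + a + (a + 1) := by ring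
    omega
  rw [this]; ring

theorem six_add (q : ℕ) : q ^ 6 + 1 = (q ^ 2 + 1) * (q ^ 4 - q ^ 2 + 1) := by
  have := cube_add (q ^ 2)
  have e : q ^ 6 = (q ^ 2) ^ 3 := by ring
  have e2 : q ^ 4 = (q ^ 2) ^ 2 := by ring
  rw [e, e2, this]

theorem eight_four (q : ℕ) : q ^ 8 + q ^ 4 + 1 = ((q ^ 2) ^ 2 + q ^ 2 + 1) * (q ^ 4 - q ^ 2 + 1) := by
  have := plus_minus (q ^ 2)
  have e : q ^ 8 + q ^ 4 = ((q ^ 2) ^ 2) ^ 2 + (q ^ 2) ^ 2 := by ring
  have e2 : q ^ 4 = (q ^ 2) ^ 2 := by ring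
  rw [e, this, e2]

theorem HH.cop_plus {q h Z : ℕ} (H : HH q h Z) (hd : ¬ h ∣ 3) : Nat.Coprime Z (q ^ 2 + q + 1) := by
  have := H.cop_sub hd
  rw [cube_sub] at this
  exact this.coprime_mul_left_right

theorem HH.cop_minus {q h Z : ℕ} (H : HH q h Z) (hd : ¬ h ∣ 6 ∨ h ∣ 3) : Nat.Coprime Z (q ^ 2 - q + 1) := by
  have := H.cop_add (d := 3) hd
  rw [cube_add] at this
  exact this.coprime_mul_left_right

theorem HH.cop_twelve {q h Z : ℕ} (H : HH q h Z) (hd : ¬ h ∣ 12 ∨ h ∣ 6) : Nat.Coprime Z (q ^ 4 - q ^ 2 + 1) := by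
  have := H.cop_add (d := 6) hd
  rw [six_add] at this
  exact this.coprime_mul_left_right

theorem no_G2 {p f N m l : ℕ} (h : IsOrd .G2 p f N) (hl : l.Prime) (hN : N = m ^ l) : False := by
  have hq3 : 3 ≤ p ^ f := h.valid
  have hcof : LT.G2.cof (p ^ f) = ((p ^ f) ^ 2 - 1) * ((p ^ f) ^ 6 - 1) := rfl
  by_cases hl2 : l = 2
  · subst hl2
    have heq := h.eq
    rw [hcof, show LT.G2.expo = 6 from rfl, show LT.G2.dd (p ^ f) = 1 from rfl, one_mul, six_sub'] at heq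
    generalize p ^ f = q at *
    have h1 : m ^ 2 = (q ^ 3 * (q ^ 2 - 1)) ^ 2 * ((q ^ 2) ^ 2 + q ^ 2 + 1) := by
      rw [← hN, heq]; ring
    have h2 : 0 < q ^ 2 - 1 := by
      have : 9 ≤ q ^ 2 := by nlinarith
      omega
    obtain ⟨y, hy⟩ := pow_of_mul_pow (by norm_num) (by positivity) h1
    exact not_sq_plus (by nlinarith) hy
  · refine phi36 h.prime h.f_ne hl hl2 hq3 (root_six h hl hN hl2 ⟨1, 1, rfl⟩) ?_ ?_
    · intro Z c hZ hc H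
      have e : LT.G2.cof (p ^ f) = Z * (c * ((p ^ f) ^ 2 - 1) ^ 2 * ((p ^ f) ^ 2 - p ^ f + 1)) := by
        rw [hcof, six_sub, hZ]; ring
      exact h.power hN e H.pos (Nat.Coprime.mul_right (Nat.Coprime.mul_right hc ((H.cop_sub (by norm_num)).pow_right 2))
        (H.cop_minus (.inr (by norm_num)))) (H.cop_q _) (Nat.coprime_one_right _)
    · intro Z c hZ hc H
      have e : LT.G2.cof (p ^ f) = Z * (c * ((p ^ f) ^ 2 - 1) ^ 2 * ((p ^ f) ^ 2 + p ^ f + 1)) := by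
        rw [hcof, six_sub, hZ]; ring
      exact h.power hN e H.pos (Nat.Coprime.mul_right (Nat.Coprime.mul_right hc ((H.cop_sub (by norm_num)).pow_right 2))
        (H.cop_plus (by norm_num))) (H.cop_q _) (Nat.coprime_one_right _)

theorem IsOrd.zz {T : LT} {p f N m i : ℕ} (h : IsOrd T p f N) (hN : N = m ^ 2) (hi : 1 ≤ i)
    (hF : ∀ Z, Z = ((p ^ f) ^ 2 ^ i) ^ 2 - (p ^ f) ^ 2 ^ i + 1 → HH (p ^ f) (3 * 2 ^ (i + 1)) Z →
      ∃ W, T.cof (p ^ f) = Z * W ∧ Nat.Coprime Z W ∧ Nat.Coprime Z (T.dd (p ^ f))) : False := by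
  have H := zz_HH h.two_le hi
  obtain ⟨W, h1, h2, h3⟩ := hF _ rfl H
  obtain ⟨z, hz⟩ := h.power hN h1 H.pos h2 (H.cop_q _) h3
  exact zz_not_sq h.two_le hz

theorem zz_one (q : ℕ) : (q ^ 2 ^ 1) ^ 2 - q ^ 2 ^ 1 + 1 = q ^ 4 - q ^ 2 + 1 := by
  rw [pow_one, ← pow_mul]

theorem zz_two (q : ℕ) : (q ^ 2 ^ 2) ^ 2 - q ^ 2 ^ 2 + 1 = q ^ 8 - q ^ 4 + 1 := by
  rw [← pow_mul]; norm_num

theorem no_TD4 {p f N m l : ℕ} (h : IsOrd .TD4 p f N) (hl : l.Prime) (hN : N = m ^ l) : False := by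
  have hq2 : 2 ≤ p ^ f := h.two_le
  have hcof : LT.TD4.cof (p ^ f) = ((p ^ f) ^ 2 - 1) * ((p ^ f) ^ 6 - 1) * ((p ^ f) ^ 8 + (p ^ f) ^ 4 + 1) := rfl
  have key : ∃ W, LT.TD4.cof (p ^ f) = ((p ^ f) ^ 4 - (p ^ f) ^ 2 + 1) * W ∧
      (HH (p ^ f) 12 ((p ^ f) ^ 4 - (p ^ f) ^ 2 + 1) → Nat.Coprime ((p ^ f) ^ 4 - (p ^ f) ^ 2 + 1) W) := by
    refine ⟨((p ^ f) ^ 2 - 1) * ((p ^ f) ^ 6 - 1) * (((p ^ f) ^ 2) ^ 2 + (p ^ f) ^ 2 + 1), ?_, fun H => ?_⟩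
    · rw [hcof, eight_four]; ring
    · have h1 := H.cop_sub (d := 6) (by norm_num)
      refine Nat.Coprime.mul_right (Nat.Coprime.mul_right (H.cop_sub (by norm_num)) h1) ?_
      rw [six_sub'] at h1
      exact h1.coprime_mul_left_right
  have e4 := zz_one (p ^ f)
  have H12 := zz_HH hq2 (le_refl 1)
  rw [e4] at H12
  by_cases hl2 : l = 2
  · subst hl2
    refine h.zz hN le_rfl ?_
    intro Z hZ H
    rw [e4] at hZ
    subst hZ
    obtain ⟨W, h1, h2⟩ := key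
    exact ⟨W, h1, h2 H, Nat.coprime_one_right _⟩
  · by_cases hq : p ^ f = 2
    · obtain ⟨W, h1, h2⟩ := key
      obtain ⟨z, hz⟩ := h.power hN h1 H12.pos (h2 H12) (H12.cop_q _) (Nat.coprime_one_right _)
      rw [hq] at hz
      exact not_pow_of_prime (r := 13) (by norm_num) (by norm_num) (by norm_num) hl.two_le hz
    have hq3 : 3 ≤ p ^ f := by omega
    have h2l : Nat.Coprime 2 l := (Nat.coprime_primes Nat.prime_two hl).2 (Ne.symm hl2)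
    refine phi36 h.prime h.f_ne hl hl2 hq3 (root_six h hl hN hl2 ⟨2, 1, rfl⟩) ?_ ?_
    · intro Z c hZ hc H
      have e : LT.TD4.cof (p ^ f) = Z ^ 2 * (c ^ 2 * ((p ^ f) ^ 2 - 1) ^ 2 * ((p ^ f) ^ 2 - p ^ f + 1) ^ 2 *
          ((p ^ f) ^ 4 - (p ^ f) ^ 2 + 1)) := by
        rw [hcof, eight_four, six_sub, plus_minus, hZ]; ring
      obtain ⟨z, hz⟩ := h.power hN e (pow_pos H.pos 2) (Nat.Coprime.pow_left 2 (Nat.Coprime.mul_right
        (Nat.Coprime.mul_right (Nat.Coprime.mul_right (hc.pow_right 2) ((H.cop_sub (by norm_num)).pow_right 2))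
        ((H.cop_minus (.inr (by norm_num))).pow_right 2)) (H.cop_twelve (.inr (by norm_num)))))
        (Nat.Coprime.pow_left 2 (H.cop_q _)) (Nat.coprime_one_right _)
      exact root_of_coprime h2l hz
    · intro Z c hZ hc H
      have e : LT.TD4.cof (p ^ f) = Z ^ 2 * (c ^ 2 * ((p ^ f) ^ 2 - 1) ^ 2 * ((p ^ f) ^ 2 + p ^ f + 1) ^ 2 *
          ((p ^ f) ^ 4 - (p ^ f) ^ 2 + 1)) := by
        rw [hcof, eight_four, six_sub, plus_minus, hZ]; ring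
      obtain ⟨z, hz⟩ := h.power hN e (pow_pos H.pos 2) (Nat.Coprime.pow_left 2 (Nat.Coprime.mul_right
        (Nat.Coprime.mul_right (Nat.Coprime.mul_right (hc.pow_right 2) ((H.cop_sub (by norm_num)).pow_right 2))
        ((H.cop_plus (by norm_num)).pow_right 2)) (H.cop_twelve (.inr (by norm_num)))))
        (Nat.Coprime.pow_left 2 (H.cop_q _)) (Nat.coprime_one_right _)
      exact root_of_coprime h2l hz

theorem no_Ree {p f N m l : ℕ} (h : IsOrd .Ree p f N) (hl : l.Prime) (hN : N = m ^ l) : False := by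
  have hq2 : 2 ≤ p ^ f := h.two_le
  obtain ⟨hp, s, hs, hfs⟩ := h.valid
  subst hp
  have hcof : LT.Ree.cof (3 ^ f) = (3 ^ f - 1) * ((3 ^ f) ^ 3 + 1) := rfl
  by_cases hl2 : l = 2
  · subst hl2
    obtain ⟨g, -, hg, -⟩ := h.exists_root Nat.prime_two hN (by show ¬ 2 ∣ 3; norm_num)
    omega
  obtain ⟨Z, c, hZ, hc3, hc1, hZ3, H⟩ := minus_HH hq2
  have hm : 3 ^ f % 3 = 0 := Nat.mod_eq_zero_of_dvd (dvd_pow_self 3 h.f_ne)
  have hc := hc1 (by rw [hm]; norm_num)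
  rw [hc, one_mul] at hZ
  have e : LT.Ree.cof (3 ^ f) = Z * ((3 ^ f - 1) * (3 ^ f + 1)) := by rw [hcof, cube_add, hZ]; ring
  obtain ⟨z, hz⟩ := h.power hN e H.pos (Nat.Coprime.mul_right (H.cop_sub_one (by norm_num)) (H.cop_add_one (by norm_num)))
    (H.cop_q _) (Nat.coprime_one_right _)
  by_cases hl3 : l = 3
  · subst hl3
    have heq := h.eq
    rw [e, hz, ← sq_sub, show LT.Ree.expo = 3 from rfl, show LT.Ree.dd (3 ^ f) = 1 from rfl, one_mul, hN] at heq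
    have hz0 : 0 < z := by
      rcases Nat.eq_zero_or_pos z with h0 | h0
      · rw [h0] at hz; have := H.pos; omega
      · exact h0
    have h4 : m ^ 3 = (3 ^ f * z) ^ 3 * ((3 ^ f) ^ 2 - 1) := by
      rw [heq]; ring
    obtain ⟨y, hy⟩ := pow_of_mul_pow (by norm_num) (by positivity) h4
    have h5 : 1 ≤ (3 ^ f) ^ 2 := Nat.one_le_pow _ _ (by positivity)
    have := ree_cube (f := f) (w := y) (by omega)
    omega
  · obtain ⟨a, ha⟩ := root_six h hl hN hl2 ⟨0, 1, rfl⟩ hl3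
    rw [hz] at hZ
    exact size_minus (by have := hl.two_le; omega) hq2 ha hZ

end Cfsg.Agent.H437
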